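import Cfsg.Agent.Lib.Chars.Completeness
import Cfsg.Agent.Lib.Chars.Ops
import Cfsg.Agent.Lib.Clifford.Basic

/-!
# The determinant of an arbitrary character as a homomorphism
-/

set_option autoImplicit false

namespace Cfsg.Agent.Lib.DetHom

open Cfsg.Agent.Lib

attribute [-instance] MonoidHom.instPow MonoidHom.mul instOneMonoidHom MonoidHom.instCommMonoid
  MonoidHom.instInv MonoidHom.instDiv

universe u v

variable {G : Type u} [Group G]

open Classical in
/-- The determinant of a representation affording the character `χ`. -/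
noncomputable def det (χ : G → ℂ) : G →* ℂˣ :=
  if h : IsCharacter G χ then MonoidHom.toHomUnits (LinearMap.det.comp h.choose_spec.choose) else 1

theorem det_eq [Finite G] {V : Type v} [AddCommGroup V] [Module ℂ V] [FiniteDimensional ℂ V]
    (ρ : Representation ℂ G V) (g : G) :
    (det ρ.character g : ℂ) = LinearMap.det (ρ g) := by
  have h : IsCharacter G ρ.character := Chars.isCharacter_of_rep ρ
  obtain ⟨e⟩ := Chars.equiv_of_char_eq h.choose_spec.choose ρ h.choose_spec.choose_spec
  simp only [det, dif_pos h]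
  exact Clifford.det_equiv e g

theorem det_zero [Finite G] : det (0 : G → ℂ) = 1 := by
  refine MonoidHom.ext fun g => Units.ext ?_
  let ρ : Representation ℂ G (Fin 0 → ℂ) := Representation.trivial ℂ G (Fin 0 → ℂ)
  have hρ : ρ.character = 0 := funext fun x => by simp [Representation.character, ρ]
  rw [← hρ, det_eq]
  simp [ρ]

theorem det_add [Finite G] {φ ψ : G → ℂ} (hφ : IsCharacter G φ) (hψ : IsCharacter G ψ) :
    det (φ + ψ) = det φ * det ψ := by
  obtain ⟨n, ρ, rfl⟩ := hφ
  obtain ⟨m, σ, rfl⟩ := hψ
  refine MonoidHom.ext fun g => Units.ext ?_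
  rw [MonoidHom.mul_apply, Units.val_mul, det_eq, det_eq, ← Chars.char_prod, det_eq]
  exact LinearMap.det_prodMap (ρ g) (σ g)

theorem det_sum [Finite G] {ι : Type*} (s : Finset ι) {f : ι → G → ℂ}
    (h : ∀ i ∈ s, IsCharacter G (f i)) : det (∑ i ∈ s, f i) = ∏ i ∈ s, det (f i) := by
  classical
  induction s using Finset.induction_on with
  | empty => simp [det_zero]
  | @insert i s hi ih =>
    rw [Finset.sum_insert hi, Finset.prod_insert hi, det_add (h i (Finset.mem_insert_self i s))
      (Chars.isCharacter_sum s fun j hj => h j (Finset.mem_insert_of_mem hj)),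
      ih fun j hj => h j (Finset.mem_insert_of_mem hj)]

theorem det_natCast_smul [Finite G] {φ : G → ℂ} (hφ : IsCharacter G φ) (e : ℕ) :
    det ((e : ℂ) • φ) = det φ ^ e := by
  have h := det_sum (Finset.range e) (f := fun _ => φ) fun _ _ => hφ
  simpa [Finset.sum_const, Finset.prod_const, ← Nat.cast_smul_eq_nsmul ℂ] using h

theorem det_comp [Finite G] {H : Type*} [Group H] [Finite H] (f : H →* G) {φ : G → ℂ}
    (hφ : IsCharacter G φ) : det (fun x => φ (f x)) = (det φ).comp f := by
  obtain ⟨n, ρ, rfl⟩ := hφ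
  refine MonoidHom.ext fun x => Units.ext ?_
  let σ : Representation ℂ H (Fin n → ℂ) := ρ.comp f
  rw [show (fun x => ρ.character (f x)) = σ.character from rfl,
    det_eq]
  show LinearMap.det (ρ (f x)) = ((det ρ.character (f x) : ℂˣ) : ℂ)
  rw [det_eq]

/-- The twist of a representation by a linear character. -/
noncomputable def twist {V : Type v} [AddCommGroup V] [Module ℂ V] (μ : G →* ℂˣ)
    (ρ : Representation ℂ G V) : Representation ℂ G V where
  toFun g := (μ g : ℂ) • ρ g
  map_one' := by simp
  map_mul' a b := by rw [smul_mul_smul_comm, map_mul, map_mul, Units.val_mul]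

theorem det_hom_mul [Finite G] (μ : G →* ℂˣ) {φ : G → ℂ} (hφ : IsCharacter G φ) {d : ℕ}
    (hd : φ 1 = d) : det (fun g => (μ g : ℂ) * φ g) = μ ^ d * det φ := by
  obtain ⟨n, ρ, rfl⟩ := hφ
  have hfin : Module.finrank ℂ (Fin n → ℂ) = d := by
    rw [Representation.char_one] at hd; exact_mod_cast hd
  have hc : (fun g => (μ g : ℂ) * ρ.character g) = (twist μ ρ).character := funext fun g => by
    simp [Representation.character, twist]
  refine MonoidHom.ext fun g => Units.ext ?_
  rw [hc, det_eq, MonoidHom.mul_apply, Units.val_mul, det_eq, MonoidHom.pow_apply,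
    Units.val_pow_eq_pow_val]
  show LinearMap.det ((μ g : ℂ) • ρ g) = _
  rw [LinearMap.det_smul, hfin]

theorem det_hom [Finite G] (μ : G →* ℂˣ) : det (fun g => (μ g : ℂ)) = μ := by
  refine MonoidHom.ext fun g => Units.ext ?_
  rw [← Chars.char_homRep, det_eq]
  show LinearMap.det ((μ g : ℂ) • (1 : Module.End ℂ ℂ)) = _
  rw [LinearMap.det_smul, map_one, mul_one, Module.finrank_self, pow_one]

end Cfsg.Agent.Lib.DetHom
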