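import Cfsg.Agent.Lib.MinimalNormal
import Cfsg.Agent.Lib.Hall.Solvable
import Cfsg.Agent.Lib.Coprime.ThompsonFPF
import Cfsg.Agent.S0050

/-!
Carter subgroups of finite solvable groups: existence and conjugacy.
-/

set_option autoImplicit false

namespace Cfsg.Agent.Lib.Carter

open scoped Pointwise

universe u

/-- A nilpotent self-normalising subgroup. -/
def IsCarter {G : Type u} [Group G] (C : Subgroup G) : Prop :=
  Group.IsNilpotent C ∧ Subgroup.normalizer (C : Set G) = C

section Basic

variable {G : Type u} [Group G]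

theorem isNilpotent_of_le {A B : Subgroup G} (h : A ≤ B) (hB : Group.IsNilpotent B) :
    Group.IsNilpotent A :=
  (Group.isNilpotent_congr (Subgroup.subgroupOfEquivOfLe h)).mp inferInstance

theorem IsCarter.subgroupOf {C K : Subgroup G} (hC : IsCarter C) (h : C ≤ K) :
    IsCarter (C.subgroupOf K) := by
  refine ⟨(Group.isNilpotent_congr (Subgroup.subgroupOfEquivOfLe h)).mpr hC.1, ?_⟩
  have e : (Subgroup.normalizer (C : Set G)).subgroupOf K =
      Subgroup.normalizer ((C.subgroupOf K : Subgroup K) : Set K) := Subgroup.subgroupOf_normalizer_eq h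
  rw [← e, hC.2]

theorem IsCarter.conj {C : Subgroup G} (hC : IsCarter C) (g : G) :
    IsCarter (MulAut.conj g • C) := by
  have hm : ∀ (g x : G) (C : Subgroup G), x ∈ MulAut.conj g • C ↔ g⁻¹ * x * g ∈ C := fun g x C => by
    rw [Subgroup.mem_pointwise_smul_iff_inv_smul_mem]; simp [MulAut.smul_def, mul_assoc]
  refine ⟨(Group.isNilpotent_congr (Subgroup.equivSMul (MulAut.conj g) C)).mp hC.1, ?_⟩
  refine le_antisymm (fun x hx => ?_) Subgroup.le_normalizer
  rw [hm, ← hC.2, Subgroup.mem_normalizer_iff]
  intro y
  have h := Subgroup.mem_normalizer_iff.mp hx (g * y * g⁻¹)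
  rw [hm, hm] at h
  simpa [mul_assoc] using h

variable [Finite G]

theorem eq_top_of_isNilpotent {C : Subgroup G} (hG : Group.IsNilpotent G)
    (hC : Subgroup.normalizer (C : Set G) = C) : C = ⊤ := by
  by_contra h
  have := Group.normalizerCondition_of_isNilpotent (h := hG) C (lt_top_iff_ne_top.mpr h)
  exact absurd hC this.ne'

theorem le_of_coprime_index {X N : Subgroup G} [N.Normal]
    (h : (Nat.card X).Coprime N.index) : X ≤ N := by
  intro x hx
  rw [← QuotientGroup.eq_one_iff]
  refine orderOf_eq_one_iff.mp (Nat.eq_one_of_dvd_coprimes h ?_ (orderOf_dvd_natCard _))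
  exact (orderOf_map_dvd (QuotientGroup.mk' N) x).trans (Subgroup.orderOf_dvd_natCard _ hx)

end Basic

theorem map_ne_top_of_lt {G : Type u} [Group G] [Finite G] {K : Subgroup G} (h : K ≠ ⊤) :
    Nat.card K < Nat.card G :=
  lt_of_le_of_ne K.card_le_card_group fun e => h (K.eq_top_of_card_eq e)

theorem exists_and_conj (G : Type u) [Group G] [Finite G] [Group.IsSolvable G] :
    (∃ C : Subgroup G, IsCarter C) ∧
      ∀ C D : Subgroup G, IsCarter C → IsCarter D → ∃ g : G, MulAut.conj g • C = D := by
  classical
  suffices key : ∀ (n : ℕ) (G : Type u) [Group G] [Finite G] [Group.IsSolvable G],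
      Nat.card G = n → (∃ C : Subgroup G, IsCarter C) ∧
        ∀ C D : Subgroup G, IsCarter C → IsCarter D → ∃ g : G, MulAut.conj g • C = D from
    key _ G rfl
  intro n
  induction n using Nat.strong_induction_on with
  | _ n ih =>
  intro G _ _ _ hn
  by_cases hG : Group.IsNilpotent G
  · refine ⟨⟨⊤, Group.isNilpotent_top.mpr hG, ?_⟩, fun C D hC hD => ⟨1, ?_⟩⟩
    · exact top_le_iff.mp Subgroup.le_normalizer
    · rw [map_one, one_smul, eq_top_of_isNilpotent hG hC.2, eq_top_of_isNilpotent hG hD.2]
  have : Nontrivial G := by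
    by_contra h
    rw [not_nontrivial_iff_subsingleton] at h
    exact hG Group.isNilpotent_of_subsingleton
  obtain ⟨M, hM, hM1, -, hmin⟩ :=
    MinimalNormal.exists_minimal_normal_le (G := G) (M := ⊤) inferInstance top_ne_bot
  have := hM
  obtain ⟨hMc, p, hp, hexp⟩ := MinimalNormal.elementaryAbelian M hM1 hmin
  have := hMc
  have := Fact.mk hp
  have hMp : IsPGroup p M := fun x => ⟨1, Subtype.ext (by simpa using hexp x x.2)⟩
  obtain ⟨k, hk⟩ := hMp.exists_card_eq
  let π := QuotientGroup.mk' M
  have hπ : Function.Surjective π := QuotientGroup.mk'_surjective M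
  have hker : π.ker = M := QuotientGroup.ker_mk' M
  have hlt : Nat.card (G ⧸ M) < n := by
    rw [← hn, Subgroup.card_eq_card_quotient_mul_card_subgroup M]
    exact lt_mul_of_one_lt_right Nat.card_pos ((Subgroup.one_lt_card_iff_ne_bot M).mpr hM1)
  have ihQ := ih _ hlt (G ⧸ M) rfl
  -- conjugacy inside a proper subgroup
  have conj_in : ∀ K : Subgroup G, K ≠ ⊤ → ∀ C D : Subgroup G, C ≤ K → D ≤ K → IsCarter C →
      IsCarter D → ∃ g ∈ K, MulAut.conj g • C = D := by
    intro K hK C D hCK hDK hC hD
    obtain ⟨g, hg⟩ := (ih _ (hn ▸ map_ne_top_of_lt hK) K rfl).2 _ _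
      (hC.subgroupOf hCK) (hD.subgroupOf hDK)
    refine ⟨g, g.2, ?_⟩
    ext x
    rw [Subgroup.mem_pointwise_smul_iff_inv_smul_mem]
    simp only [MulAut.smul_def, MulAut.inv_def, MulAut.conj_symm_apply]
    constructor
    · intro hx
      have hxK : x ∈ K := by
        have : x = (g : G) * ((g : G)⁻¹ * x * g) * (g : G)⁻¹ := by group
        rw [this]; exact mul_mem (mul_mem g.2 (hCK hx)) (inv_mem g.2)
      have : (⟨x, hxK⟩ : K) ∈ MulAut.conj g • C.subgroupOf K := by
        rw [Subgroup.mem_pointwise_smul_iff_inv_smul_mem]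
        simpa [MulAut.smul_def, Subgroup.mem_subgroupOf] using hx
      rw [hg] at this
      exact this
    · intro hx
      have : (⟨x, hDK hx⟩ : K) ∈ D.subgroupOf K := hx
      rw [← hg, Subgroup.mem_pointwise_smul_iff_inv_smul_mem] at this
      simpa [MulAut.smul_def, Subgroup.mem_subgroupOf] using this
  -- images of Carter subgroups are self-normalising
  have image_carter : ∀ C : Subgroup G, IsCarter C → IsCarter (C.map π) := by
    intro C hC
    refine ⟨Group.nilpotent_of_surjective (h := hC.1) (π.subgroupMap C) (π.subgroupMap_surjective C), ?_⟩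
    refine le_antisymm (fun y hy => ?_) Subgroup.le_normalizer
    obtain ⟨g, rfl⟩ := hπ y
    set K := (C.map π).comap π with hKdef
    have hCK : C ≤ K := Subgroup.le_comap_map π C
    by_cases hK : K = ⊤
    · have : g ∈ K := hK ▸ Subgroup.mem_top g
      exact this
    · have hgK : MulAut.conj g • C ≤ K := by
        intro x hx
        rw [Subgroup.mem_pointwise_smul_iff_inv_smul_mem] at hx
        have hx' : π ((MulAut.conj g)⁻¹ • x) ∈ C.map π := Subgroup.mem_map_of_mem π hx
        rw [Subgroup.mem_normalizer_iff] at hy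
        have := (hy _).mp hx'
        rw [hKdef, Subgroup.mem_comap]
        simpa [MulAut.smul_def, mul_assoc] using this
      obtain ⟨c, hc, hcg⟩ := conj_in K hK C _ hCK hgK hC (hC.conj g)
      have hmem : c⁻¹ * g ∈ Subgroup.normalizer (C : Set G) := by
        have he : MulAut.conj (c⁻¹ * g) • C = C := by
          rw [map_mul, mul_smul, ← hcg, smul_smul, ← map_mul, inv_mul_cancel, map_one, one_smul]
        rw [Subgroup.mem_normalizer_iff]
        intro x
        conv_rhs => rw [← he]
        rw [Subgroup.mem_pointwise_smul_iff_inv_smul_mem]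
        simp [MulAut.smul_def, mul_assoc]
      rw [hC.2] at hmem
      have : g ∈ K := by
        have e : g = c * (c⁻¹ * g) := by group
        rw [e]; exact mul_mem hc (hCK hmem)
      exact this
  -- the Hall `p'`-order
  set a := (Nat.card G).factorization p
  set m := Nat.card G / p ^ a
  have hGm : Nat.card G = m * p ^ a :=
    (Nat.div_mul_cancel (Nat.ordProj_dvd _ p)).symm
  have hmp : m.Coprime p := (Nat.coprime_ordCompl hp Nat.card_pos.ne').symm
  have hmpa : m.Coprime (p ^ a) := Nat.Coprime.pow_right a hmp
  constructor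
  · obtain ⟨Kb, hKb⟩ := ihQ.1
    set K := Kb.comap π with hKdef
    have hMK : M ≤ K := fun x hx => by
      rw [hKdef, Subgroup.mem_comap, show π x = 1 from (QuotientGroup.eq_one_iff x).mpr hx]
      exact one_mem _
    by_cases hK : K = ⊤
    · -- `G ⧸ M` is nilpotent
      have hKb' : Kb = ⊤ := by
        rw [← Subgroup.map_comap_eq_self_of_surjective hπ Kb, ← hKdef, hK,
          Subgroup.map_top_of_surjective _ hπ]
      have hQnil : Group.IsNilpotent (G ⧸ M) := Group.isNilpotent_top.mp (hKb' ▸ hKb.1)
      obtain ⟨H, hH⟩ := Hall.exists_card_eq hGm hmpa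
      have hL : ((H.map π).comap π).Normal := by
        obtain ⟨P, N, hN, hPN⟩ :=
          Coprime.hasNormalPComplement_of_isNilpotent (p := p) hQnil
        have hle : H.map π ≤ N := by
          refine le_of_coprime_index ?_
          obtain ⟨j, hj⟩ := P.isPGroup'.exists_card_eq
          rw [hPN.symm.index_eq_card, hj]
          refine Nat.Coprime.coprime_dvd_left ?_ (Nat.Coprime.pow_right j hmp)
          exact hH ▸ Subgroup.card_map_dvd H π
        have hge : N ≤ H.map π := by
          refine (Subgroup.eq_of_le_of_card_ge hle ?_).ge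
          refine Nat.le_of_dvd Nat.card_pos ?_
          have hcopN : (Nat.card N).Coprime p := by
            rw [← hPN.index_eq_card]
            exact (hp.coprime_iff_not_dvd.mpr P.not_dvd_index).symm
          have hmap : Nat.card (H.map π) = m := by
            rw [← hH]
            refine Nat.dvd_antisymm (Subgroup.card_map_dvd H π) ?_
            have hinj : Function.Injective (π.comp H.subtype) := by
              rw [← MonoidHom.ker_eq_bot_iff, eq_bot_iff]
              intro x hx
              have hxM : (x : G) ∈ M := hker ▸ hx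
              have h1 : orderOf (x : G) ∣ p := orderOf_dvd_of_pow_eq_one (hexp _ hxM)
              have h2 : orderOf (x : G) ∣ m := hH ▸ Subgroup.orderOf_dvd_natCard _ x.2
              exact Subgroup.mem_bot.mpr (Subtype.ext
                (orderOf_eq_one_iff.mp (Nat.eq_one_of_dvd_coprimes hmp h2 h1)))
            refine (Nat.card_congr (Equiv.ofBijective
              (fun x : H => (⟨π x, Subgroup.mem_map_of_mem π x.2⟩ : H.map π))
              ⟨fun x y e => hinj (congrArg Subtype.val e), ?_⟩)).dvd
            rintro ⟨_, x, hx, rfl⟩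
            exact ⟨⟨x, hx⟩, rfl⟩
          rw [hmap]
          refine hcopN.pow_right a |>.dvd_of_dvd_mul_right (hGm ▸ ?_)
          exact (Subgroup.card_subgroup_dvd_card N).trans (Subgroup.card_quotient_dvd_card M)
        rw [le_antisymm hle hge]
        exact Subgroup.Normal.comap hN π
      have hHL : H ≤ (H.map π).comap π := Subgroup.le_comap_map π H
      set L := (H.map π).comap π with hLdef
      have := hL
      have hrel : (Nat.card H).Coprime (H.relIndex L) := by
        refine (hH ▸ hmpa).coprime_dvd_right ?_
        refine (Dvd.intro _ (Subgroup.relIndex_mul_index hHL)).trans (dvd_of_eq ?_)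
        exact Nat.eq_of_mul_eq_mul_left Nat.card_pos
          (H.card_mul_index.trans (hGm.trans (by rw [hH])))
      have hfr := Cfsg.Agent.S0050.result L (inferInstance : Group.IsSolvable L) H hHL hrel
      set C := Subgroup.normalizer (H : Set G) with hCdef
      have hHC : H ≤ C := Subgroup.le_normalizer
      have hCM : (H.subgroupOf C) ⊓ (M.subgroupOf C) = ⊥ := by
        rw [eq_bot_iff]
        intro x hx
        obtain ⟨h1, h2⟩ := Subgroup.mem_inf.mp hx
        have d1 : orderOf (x : G) ∣ m := hH ▸ Subgroup.orderOf_dvd_natCard _ h1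
        have d2 : orderOf (x : G) ∣ p := orderOf_dvd_of_pow_eq_one (hexp _ h2)
        exact Subgroup.mem_bot.mpr (Subtype.ext
          (orderOf_eq_one_iff.mp (Nat.eq_one_of_dvd_coprimes hmp d1 d2)))
      have hHn : (H.subgroupOf C).Normal := Subgroup.normal_subgroupOf_of_le_normalizer le_rfl
      have hidx : (H.subgroupOf C).index ∣ p ^ a := by
        refine (Dvd.intro _ (Subgroup.relIndex_mul_index hHC)).trans (dvd_of_eq ?_)
        exact Nat.eq_of_mul_eq_mul_left Nat.card_pos
          (H.card_mul_index.trans (hGm.trans (by rw [hH])))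
      have hCnil : Group.IsNilpotent C := by
        obtain ⟨j, -, hj⟩ := (Nat.dvd_prime_pow hp).mp hidx
        have h1 : Group.IsNilpotent (C ⧸ H.subgroupOf C) := (IsPGroup.of_card (p := p) hj).isNilpotent
        let f : C →* (C ⧸ H.subgroupOf C) × (G ⧸ M) :=
          (QuotientGroup.mk' _).prod (π.comp C.subtype)
        refine Subgroup.isNilpotent_of_ker_le_center f ?_
        rw [MonoidHom.ker_prod, QuotientGroup.ker_mk', ← MonoidHom.comap_ker, hker]
        exact hCM.le.trans bot_le
      refine ⟨C, hCnil, le_antisymm (fun g hg => ?_) Subgroup.le_normalizer⟩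
      rw [hCdef, Subgroup.mem_normalizer_iff]
      have hstep : ∀ g ∈ Subgroup.normalizer (C : Set G), ∀ h ∈ H, g * h * g⁻¹ ∈ H := by
        intro g hg h hh
        have hgC : ∀ x ∈ H, g * x * g⁻¹ ∈ C := fun x hx =>
          (Subgroup.mem_normalizer_iff.mp hg x).mp (hHC hx)
        let X : Subgroup C := (H.map (MulAut.conj g).toMonoidHom).subgroupOf C
        have hXle : H.map (MulAut.conj g).toMonoidHom ≤ C := by
          rintro _ ⟨x, hx, rfl⟩; exact hgC x hx
        have hX : X ≤ H.subgroupOf C := by
          refine le_of_coprime_index ?_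
          rw [Nat.card_congr (Subgroup.subgroupOfEquivOfLe hXle).toEquiv,
            Subgroup.card_map_of_injective (MulAut.conj g).injective, hH]
          exact hmpa.coprime_dvd_right hidx
        exact hX (x := ⟨_, hgC h hh⟩) ⟨h, hh, rfl⟩
      refine fun h => ⟨hstep g hg h, fun hh => ?_⟩
      have := hstep g⁻¹ (inv_mem hg) _ hh
      simpa [mul_assoc] using this
    · -- proper preimage
      obtain ⟨C₀, hC₀⟩ := (ih _ (hn ▸ map_ne_top_of_lt hK) K rfl).1
      set C := C₀.map K.subtype with hCdef
      have hCnil : Group.IsNilpotent C := (Group.isNilpotent_congr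
        (C₀.equivMapOfInjective K.subtype K.subtype_injective)).mp hC₀.1
      have hCK : C ≤ K := Subgroup.map_subtype_le _
      have hC₀' : C.subgroupOf K = C₀ := Subgroup.comap_map_eq_self_of_injective K.subtype_injective _
      have hCK' : (C.map π).comap π = K := by
        set K' := (C.map π).comap π with hK'
        have hK'le : K' ≤ K := by
          intro x hx
          obtain ⟨c, hc, hcx⟩ := hx
          have hm : c⁻¹ * x ∈ M := QuotientGroup.eq.mp hcx
          have e : x = c * (c⁻¹ * x) := by group
          rw [e]; exact mul_mem (hCK hc) (hMK hm)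
        have hlem : (Subgroup.normalizer ((C.map π : Subgroup (G ⧸ M)) : Set (G ⧸ M))) ⊓ Kb =
            C.map π := by
          refine le_antisymm (fun y hy => ?_) (le_inf Subgroup.le_normalizer ?_)
          · obtain ⟨hy1, hy2⟩ := Subgroup.mem_inf.mp hy
            obtain ⟨g, rfl⟩ := hπ y
            have hgK : g ∈ K := hy2
            have hK'K : K' ≤ K := hK'le
            by_cases hKK : K'.subgroupOf K = ⊤
            · exact (Subgroup.subgroupOf_eq_top.mp hKK) hgK
            · have hgC : (MulAut.conj (⟨g, hgK⟩ : K) • C₀) ≤ K'.subgroupOf K := by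
                intro x hx
                rw [← hC₀', Subgroup.mem_pointwise_smul_iff_inv_smul_mem] at hx
                have hx' := (Subgroup.mem_normalizer_iff.mp hy1 _).mp
                  (Subgroup.mem_map_of_mem π (Subgroup.mem_subgroupOf.mp hx))
                rw [Subgroup.mem_subgroupOf, hK', Subgroup.mem_comap]
                simpa [MulAut.smul_def, mul_assoc] using hx'
              have hC0le : C₀ ≤ K'.subgroupOf K := hC₀' ▸ fun x hx =>
                Subgroup.le_comap_map π C hx
              have hlt' : Nat.card (K'.subgroupOf K) < n :=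
                (map_ne_top_of_lt hKK).trans (hn ▸ map_ne_top_of_lt hK)
              obtain ⟨c, hc⟩ := (ih _ hlt' (K'.subgroupOf K) rfl).2 _ _
                (hC₀.subgroupOf hC0le) ((hC₀.conj ⟨g, hgK⟩).subgroupOf hgC)
              have hmem : (c : K)⁻¹ * ⟨g, hgK⟩ ∈ Subgroup.normalizer (C₀ : Set K) := by
                rw [Subgroup.mem_normalizer_iff]
                intro x
                constructor
                · intro hx
                  have hgx : (⟨g, hgK⟩ : K) * x * (⟨g, hgK⟩ : K)⁻¹ ∈
                      MulAut.conj (⟨g, hgK⟩ : K) • C₀ := by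
                    rw [Subgroup.mem_pointwise_smul_iff_inv_smul_mem]
                    simpa [MulAut.smul_def, mul_assoc] using hx
                  have h2 : (⟨_, hgC hgx⟩ : K'.subgroupOf K) ∈
                      (MulAut.conj (⟨g, hgK⟩ : K) • C₀).subgroupOf (K'.subgroupOf K) := hgx
                  rw [← hc, Subgroup.mem_pointwise_smul_iff_inv_smul_mem] at h2
                  simpa [MulAut.smul_def, Subgroup.mem_subgroupOf, mul_assoc] using h2
                · intro hx
                  have hxm : (c : K) * ((c : K)⁻¹ * ⟨g, hgK⟩ * x * ((c : K)⁻¹ * ⟨g, hgK⟩)⁻¹) * (c : K)⁻¹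
                      ∈ K'.subgroupOf K := mul_mem (mul_mem c.2 (hC0le hx)) (inv_mem c.2)
                  have h2 : (⟨_, hxm⟩ : K'.subgroupOf K) ∈
                      MulAut.conj c • C₀.subgroupOf (K'.subgroupOf K) := by
                    rw [Subgroup.mem_pointwise_smul_iff_inv_smul_mem]
                    simpa [MulAut.smul_def, Subgroup.mem_subgroupOf, mul_assoc] using hx
                  rw [hc] at h2
                  rw [Subgroup.mem_subgroupOf, Subgroup.mem_pointwise_smul_iff_inv_smul_mem] at h2
                  simpa [MulAut.smul_def, mul_assoc] using h2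
              rw [hC₀.2] at hmem
              have hg' : (⟨g, hgK⟩ : K) ∈ K'.subgroupOf K := by
                have e : (⟨g, hgK⟩ : K) = (c : K) * ((c : K)⁻¹ * ⟨g, hgK⟩) := by group
                rw [e]; exact mul_mem c.2 (hC0le hmem)
              exact hg'
          · rintro _ ⟨x, hx, rfl⟩
            exact hCK hx
        have hsub : ((C.map π).subgroupOf Kb) = ⊤ := by
          refine eq_top_of_isNilpotent hKb.1 ?_
          have hle : C.map π ≤ Kb := by rintro _ ⟨x, hx, rfl⟩; exact hCK hx
          have e : (Subgroup.normalizer ((C.map π : Subgroup (G ⧸ M)) : Set (G ⧸ M))).subgroupOf Kb =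
              Subgroup.normalizer (((C.map π).subgroupOf Kb : Subgroup Kb) : Set Kb) :=
            Subgroup.subgroupOf_normalizer_eq hle
          rw [← e, ← Subgroup.inf_subgroupOf_right, hlem]
        exact le_antisymm hK'le (Subgroup.comap_mono (Subgroup.subgroupOf_eq_top.mp hsub))
      refine ⟨C, hCnil, le_antisymm (fun g hg => ?_) Subgroup.le_normalizer⟩
      have hgK : g ∈ K := by
        have : π g ∈ Subgroup.normalizer (Kb : Set (G ⧸ M)) := by
          have hb : Kb = C.map π := by
            rw [← Subgroup.map_comap_eq_self_of_surjective hπ Kb, ← hKdef, ← hCK',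
              Subgroup.map_comap_eq_self_of_surjective hπ]
          rw [hb]
          exact Subgroup.le_normalizer_map π ⟨g, hg, rfl⟩
        rwa [hKb.2] at this
      have h2 : (⟨g, hgK⟩ : K) ∈ Subgroup.normalizer ((C.subgroupOf K : Subgroup K) : Set K) := by
        rw [Subgroup.mem_normalizer_iff]
        intro x
        exact Subgroup.mem_normalizer_iff.mp hg x
      rw [hC₀', hC₀.2] at h2
      exact ⟨_, h2, rfl⟩
  · intro C D hC hD
    obtain ⟨gb, hgb⟩ := ihQ.2 _ _ (image_carter C hC) (image_carter D hD)
    obtain ⟨g, rfl⟩ := hπ gb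
    have hC' := hC.conj g
    set C' := MulAut.conj g • C with hC'def
    suffices ∃ x : G, MulAut.conj x • C' = D by
      obtain ⟨x, hx⟩ := this
      exact ⟨x * g, by rw [map_mul, mul_smul]; exact hx⟩
    have hmap : C'.map π = D.map π := by
      rw [← hgb]
      ext y
      obtain ⟨z, rfl⟩ := hπ y
      rw [Subgroup.mem_pointwise_smul_iff_inv_smul_mem]
      simp only [Subgroup.mem_map, hC'def, MulAut.smul_def, MulAut.inv_def, MulAut.conj_symm_apply]
      constructor
      · rintro ⟨c, hc, hcz⟩
        rw [Subgroup.mem_pointwise_smul_iff_inv_smul_mem] at hc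
        refine ⟨_, hc, ?_⟩
        simp [MulAut.smul_def, hcz]
      · rintro ⟨c, hc, hcz⟩
        refine ⟨g * c * g⁻¹, ?_, ?_⟩
        · rw [Subgroup.mem_pointwise_smul_iff_inv_smul_mem]
          simpa [MulAut.smul_def, mul_assoc] using hc
        · rw [map_mul, map_mul, map_inv, hcz]; group
    set K := (D.map π).comap π with hKdef
    have hDK : D ≤ K := Subgroup.le_comap_map π D
    have hC'K : C' ≤ K := hKdef ▸ hmap ▸ Subgroup.le_comap_map π C'
    by_cases hK : K = ⊤
    swap
    · obtain ⟨x, -, hx⟩ := conj_in K hK C' D hC'K hDK hC' hD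
      exact ⟨x, hx⟩
    -- `G = C' M = D M`
    have hsup : ∀ X : Subgroup G, X.map π = D.map π → M ⊔ X = ⊤ := by
      intro X hX
      have h := Subgroup.comap_map_eq π X
      rw [hX, ← hKdef, hK, hker] at h
      rw [sup_comm, ← h]
    have hcompl : ∀ X : Subgroup G, IsCarter X → M ⊔ X = ⊤ → M ⊓ X = ⊥ := by
      intro X hX hXs
      refine (hmin _ (MinimalNormal.normal_inf_of_sup_eq_top M X hXs) inf_le_left).resolve_right ?_
      intro e
      have hXtop : X = ⊤ := by
        rw [← hXs]; exact (sup_eq_right.mpr (inf_eq_left.mp e)).symm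
      exact hG (Group.isNilpotent_top.mp (hXtop ▸ hX.1))
    have hmax : ∀ X : Subgroup G, IsCarter X → M ⊔ X = ⊤ → ∀ N : Subgroup G, X ≤ N → N ≠ ⊤ →
        N = X := by
      intro X hX hXs N hXN hN
      refine le_antisymm (fun y hy => ?_) hXN
      have hy' : y ∈ ((M : Set G) * (X : Set G)) := by
        rw [← Subgroup.normal_mul M X, hXs]; trivial
      obtain ⟨μ, hμ, x, hx, rfl⟩ := hy'
      have hμN : μ ∈ N := by
        have := mul_mem hy (inv_mem (hXN hx))
        simpa using this
      have hMN : M ⊔ N = ⊤ := top_le_iff.mp (hXs ▸ sup_le_sup_left hXN M)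
      have hb : M ⊓ N = ⊥ := by
        refine (hmin _ (MinimalNormal.normal_inf_of_sup_eq_top M N hMN) inf_le_left).resolve_right ?_
        intro e
        exact hN (hMN ▸ (sup_eq_right.mpr (inf_eq_left.mp e)).symm)
      have : μ ∈ M ⊓ N := Subgroup.mem_inf.mpr ⟨hμ, hμN⟩
      rw [hb, Subgroup.mem_bot] at this
      simpa [this] using hx
    have hallp : ∀ X : Subgroup G, IsCarter X → M ⊔ X = ⊤ →
        ∃ H : Subgroup G, Nat.card H = m ∧ X = Subgroup.normalizer (H : Set G) := by
      intro X hX hXs
      have hXd := hcompl X hX hXs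
      obtain ⟨P, N, hN, hPN⟩ := Coprime.hasNormalPComplement_of_isNilpotent (p := p) hX.1
      let H : Subgroup G := N.map X.subtype
      have hHcard : Nat.card H = Nat.card N :=
        Subgroup.card_map_of_injective X.subtype_injective
      have hGcard : Nat.card M * (Nat.card (P : Subgroup X) * Nat.card N) = Nat.card G := by
        rw [mul_comm (Nat.card (P : Subgroup X)), hPN.card_mul]
        exact (Subgroup.isComplement'_of_disjoint_and_mul_eq_univ (disjoint_iff.mpr hXd)
          (by rw [← Subgroup.normal_mul, hXs, Subgroup.coe_top])).card_mul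
      have hcopN : (Nat.card N).Coprime p := by
        rw [← hPN.index_eq_card]
        exact (hp.coprime_iff_not_dvd.mpr P.not_dvd_index).symm
      obtain ⟨j, hj⟩ := P.isPGroup'.exists_card_eq
      have hcard : Nat.card N = m := by
        refine Nat.dvd_antisymm ?_ ?_
        · refine (hcopN.pow_right a).dvd_of_dvd_mul_right (hGm ▸ ?_)
          rw [← hGcard]
          exact (dvd_mul_left _ _).trans (dvd_mul_left _ _)
        · refine (hmp.pow_right (k + j)).dvd_of_dvd_mul_right ?_
          have e : Nat.card N * p ^ (k + j) = Nat.card G := by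
            rw [← hGcard, hk, hj, pow_add]; ring
          rw [e, hGm]
          exact dvd_mul_right _ _
      refine ⟨H, hHcard.trans hcard, ?_⟩
      have hXN : X ≤ Subgroup.normalizer (H : Set G) := by
        intro x hx
        rw [Subgroup.mem_normalizer_iff]
        intro y
        constructor
        · rintro ⟨z, hz, rfl⟩
          exact ⟨⟨x, hx⟩ * z * (⟨x, hx⟩ : X)⁻¹, hN.conj_mem z hz _, rfl⟩
        · rintro ⟨z, hz, hzy⟩
          refine ⟨(⟨x, hx⟩ : X)⁻¹ * z * ⟨x, hx⟩, ?_, ?_⟩
          · have := hN.conj_mem z hz (⟨x, hx⟩ : X)⁻¹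
            simpa using this
          · rw [map_mul, map_mul, map_inv, hzy]
            simp [mul_assoc]
      refine (hmax X hX hXs _ hXN fun htop => ?_).symm
      -- otherwise `H` is normal, so `G/H` is a `p`-group with self-normalising `X/H`
      have hHn : H.Normal := Subgroup.normalizer_eq_top_iff.mp htop
      have hqp : IsPGroup p (G ⧸ H) := by
        refine IsPGroup.of_card (n := a) ?_
        show H.index = _
        exact Nat.eq_of_mul_eq_mul_left Nat.card_pos
          (H.card_mul_index.trans (hGm.trans (by rw [hHcard, hcard])))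
      have hHX : H ≤ X := Subgroup.map_subtype_le _
      let ρ := QuotientGroup.mk' H
      have hρ : Function.Surjective ρ := QuotientGroup.mk'_surjective H
      have hcm : (X.map ρ).comap ρ = X :=
        Subgroup.comap_map_eq_self (by rw [QuotientGroup.ker_mk']; exact hHX)
      have hn' : Subgroup.normalizer ((X.map ρ : Subgroup (G ⧸ H)) : Set (G ⧸ H)) = X.map ρ := by
        apply Subgroup.comap_injective hρ
        rw [Subgroup.comap_normalizer_eq_of_surjective _ hρ, hcm, hX.2]
      have htop' := eq_top_of_isNilpotent hqp.isNilpotent hn'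
      have hXtop : X = ⊤ := by rw [← hcm, htop', Subgroup.comap_top]
      exact hG (Group.isNilpotent_top.mp (hXtop ▸ hX.1))
    obtain ⟨H₁, hH₁, hC'eq⟩ := hallp C' hC' (hsup C' hmap)
    obtain ⟨H₂, hH₂, hDeq⟩ := hallp D hD (hsup D rfl)
    obtain ⟨x, hx⟩ := Hall.conj_of_card_eq hGm hmpa hH₁ hH₂
    refine ⟨x, ?_⟩
    rw [hC'eq, hDeq, ← hx]
    ext z
    rw [Subgroup.mem_pointwise_smul_iff_inv_smul_mem]
    simp only [Subgroup.mem_normalizer_iff, MulAut.smul_def, MulAut.inv_def, MulAut.conj_symm_apply,
      Subgroup.mem_pointwise_smul_iff_inv_smul_mem]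
    constructor
    · intro h y
      have := h (x⁻¹ * y * x)
      simpa [mul_assoc] using this
    · intro h y
      have := h (x * y * x⁻¹)
      simpa [mul_assoc] using this

end Cfsg.Agent.Lib.Carter
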