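import Mathlib

/-!
Lengths of subnormal chains (composition length) and the reduction to solvable subgroups:
every finite group `G` has a solvable subgroup `S` such that every subnormal chain of `G`
has length at most `Ω(|S|)`.
-/

set_option autoImplicit false
set_option linter.style.haveILetI false

namespace Cfsg.Agent.Lib.CompLength

open ArithmeticFunction
open scoped ArithmeticFunction.Omega

variable {G : Type*} [Group G]

/-- There is a strictly increasing subnormal chain of length `j` from `⊥` up to `H`. -/
inductive Ch : Subgroup G → ℕ → Prop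
  | bot : Ch ⊥ 0
  | step {H K : Subgroup G} {j : ℕ} : Ch H j → H < K →
      (∀ h ∈ H, ∀ k ∈ K, k * h * k⁻¹ ∈ H) → Ch K (j + 1)

theorem ch_of_chain {l : ℕ} (H : Fin (l + 1) → Subgroup G) (h0 : H 0 = ⊥)
    (hchain : ∀ i : Fin l, H i.castSucc < H i.succ ∧ ((H i.castSucc).subgroupOf (H i.succ)).Normal) :
    Ch (H (Fin.last l)) l := by
  suffices ∀ i : Fin (l + 1), Ch (H i) i from this (Fin.last l)
  intro i
  induction i using Fin.induction with
  | zero => rw [h0]; exact Ch.bot
  | succ i ih =>
    rw [Fin.val_succ]
    refine Ch.step (by simpa using ih) (hchain i).1 fun h hh k hk => ?_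
    exact (hchain i).2.conj_mem ⟨h, (hchain i).1.le hh⟩ hh ⟨k, hk⟩

theorem cardFactors_lt_of_lt [Finite G] {H K : Subgroup G} (h : H < K) :
    Ω (Nat.card H) < Ω (Nat.card K) := by
  obtain ⟨m, hm⟩ := Subgroup.card_dvd_of_le h.le
  have hm0 : m ≠ 0 := by
    rintro rfl
    rw [mul_zero] at hm
    exact Nat.card_pos.ne' hm
  have hm1 : m ≠ 1 := by
    rintro rfl
    rw [mul_one] at hm
    exact h.ne (SetLike.coe_injective (Set.eq_of_subset_of_ncard_le h.le
      (by rw [← Nat.card_coe_set_eq, ← Nat.card_coe_set_eq]; exact hm.le) (Set.toFinite _)))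
  rw [hm, cardFactors_mul Nat.card_pos.ne' hm0]
  have h1 : 0 < Ω m := by
    rw [cardFactors_apply]
    refine List.length_pos_of_ne_nil fun h0 => ?_
    rcases (Nat.primeFactorsList_eq_nil m).mp h0 with h2 | h2 <;> omega
  omega

theorem Ch.le_cardFactors [Finite G] {H : Subgroup G} {j : ℕ} (h : Ch H j) :
    j ≤ Ω (Nat.card H) := by
  induction h with
  | bot => exact Nat.zero_le _
  | step _ hlt _ ih => have := cardFactors_lt_of_lt hlt; omega

/-- Projection of a chain to a normal subgroup and to the quotient. -/
theorem Ch.project {H : Subgroup G} {j : ℕ} (h : Ch H j) (M : Subgroup G) [hM : M.Normal] :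
    ∃ a b, Ch (H ⊓ M) a ∧ Ch (H.map (QuotientGroup.mk' M)) b ∧ j ≤ a + b := by
  induction h with
  | bot => exact ⟨0, 0, by rw [bot_inf_eq]; exact Ch.bot, by rw [Subgroup.map_bot]; exact Ch.bot, le_rfl⟩
  | @step H K j _ hlt hn ih =>
    obtain ⟨a, b, ha, hb, hab⟩ := ih
    have hna : ∀ h ∈ H ⊓ M, ∀ k ∈ K ⊓ M, k * h * k⁻¹ ∈ H ⊓ M := fun h hh k hk =>
      ⟨hn h hh.1 k hk.1, hM.conj_mem h hh.2 k⟩
    have hnb : ∀ h ∈ H.map (QuotientGroup.mk' M), ∀ k ∈ K.map (QuotientGroup.mk' M),
        k * h * k⁻¹ ∈ H.map (QuotientGroup.mk' M) := by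
      rintro _ ⟨h, hh, rfl⟩ _ ⟨k, hk, rfl⟩
      exact ⟨k * h * k⁻¹, hn h hh k hk, by simp⟩
    have hle1 : H ⊓ M ≤ K ⊓ M := inf_le_inf_right _ hlt.le
    have hle2 := Subgroup.map_mono (f := QuotientGroup.mk' M) hlt.le
    rcases hle1.eq_or_lt with h1 | h1 <;> rcases hle2.eq_or_lt with h2 | h2
    · exfalso
      refine hlt.not_ge fun k hk => ?_
      obtain ⟨h, hh, hhk⟩ : QuotientGroup.mk' M k ∈ H.map (QuotientGroup.mk' M) := h2 ▸ ⟨k, hk, rfl⟩
      have hm : h⁻¹ * k ∈ K ⊓ M := ⟨K.mul_mem (K.inv_mem (hlt.le hh)) hk, QuotientGroup.eq.mp hhk⟩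
      rw [← h1] at hm
      have := H.mul_mem hh hm.1
      rwa [← mul_assoc, mul_inv_cancel, one_mul] at this
    · exact ⟨a, b + 1, h1 ▸ ha, hb.step h2 hnb, by omega⟩
    · exact ⟨a + 1, b, ha.step h1 hna, h2 ▸ hb, by omega⟩
    · exact ⟨a + 1, b + 1, ha.step h1 hna, hb.step h2 hnb, by omega⟩

/-- Chains pull back along surjective homomorphisms. -/
theorem Ch.comap {G' : Type*} [Group G'] (f : G' →* G) (hf : Function.Surjective f)
    {H : Subgroup G} {j : ℕ} (h : Ch H j) : ∃ a, Ch (H.comap f) a ∧ j ≤ a := by
  induction h with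
  | bot =>
    rcases eq_or_ne f.ker ⊥ with h0 | h0
    · exact ⟨0, by rw [MonoidHom.comap_bot, h0]; exact Ch.bot, le_rfl⟩
    · refine ⟨1, ?_, Nat.zero_le _⟩
      rw [MonoidHom.comap_bot]
      exact Ch.bot.step (bot_lt_iff_ne_bot.mpr h0) fun h hh k _ => by
        rw [Subgroup.mem_bot] at hh ⊢; simp [hh]
  | @step H K j _ hlt hn ih =>
    obtain ⟨a, ha, hle⟩ := ih
    refine ⟨a + 1, ha.step ((Subgroup.comap_lt_comap_of_surjective hf).mpr hlt) fun h hh k hk => ?_, by omega⟩
    rw [Subgroup.mem_comap] at hh hk ⊢
    rw [map_mul, map_mul, map_inv]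
    exact hn _ hh _ hk

/-- `b` bounds the length of all subnormal chains of `H`. -/
def Bound (H : Subgroup G) (b : ℕ) : Prop := ∀ j, Ch H j → j ≤ b

theorem bound_cardFactors [Finite G] (H : Subgroup G) : Bound H (Ω (Nat.card H)) :=
  fun _ h => h.le_cardFactors

theorem bound_quotient (M : Subgroup G) [M.Normal] {H : Subgroup G} {a b : ℕ}
    (ha : Bound (H ⊓ M) a) (hb : Bound (H.map (QuotientGroup.mk' M)) b) : Bound H (a + b) := by
  intro j hj
  obtain ⟨a', b', h1, h2, h3⟩ := hj.project M
  have := ha _ h1
  have := hb _ h2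
  omega

theorem bound_one_of_simple {H : Subgroup G} (hs : IsSimpleGroup H) : Bound H 1 := by
  intro j hj
  rcases hj with _ | ⟨hK, hlt, hn⟩
  · exact Nat.zero_le _
  rename_i K i
  have hN : (K.subgroupOf H).Normal := ⟨fun h hh k => hn h hh k k.2⟩
  rcases hs.eq_bot_or_eq_top_of_normal _ hN with h | h
  · have hK0 : K = ⊥ := by
      rw [Subgroup.subgroupOf_eq_bot, disjoint_iff, inf_eq_left.mpr hlt.le] at h
      exact h
    subst hK0
    have : i = 0 := by
      rcases hK with _ | ⟨_, hlt', _⟩
      · rfl
      · exact absurd hlt' not_lt_bot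
    omega
  · exact absurd (Subgroup.subgroupOf_eq_top.mp h) hlt.not_ge

/-- A group generated by simple normal subgroups, all of order `t`. -/
theorem exists_bound_of_simple_normal [Finite G] {t : ℕ} (s : Finset (Subgroup G))
    (hs : ∀ T ∈ s, T.Normal ∧ IsSimpleGroup T ∧ Nat.card T = t) :
    ∃ k, (s.sup id).Normal ∧ Nat.card (s.sup id : Subgroup G) = t ^ k ∧ Bound (s.sup id) k := by
  classical
  induction s using Finset.induction with
  | empty =>
    refine ⟨0, ?_, ?_, ?_⟩
    · rw [Finset.sup_empty]; infer_instance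
    · rw [Finset.sup_empty, pow_zero]; exact Subgroup.card_bot
    · rw [Finset.sup_empty]
      intro j hj
      rcases hj with _ | ⟨_, hlt, _⟩
      · exact le_rfl
      · exact absurd hlt not_lt_bot
  | @insert T s _ ih =>
    obtain ⟨k, hn, hcard, hb⟩ := ih fun U hU => hs U (Finset.mem_insert_of_mem hU)
    obtain ⟨hT, hTs, hTt⟩ := hs T (Finset.mem_insert_self _ _)
    rw [Finset.sup_insert, id_eq]
    set M := s.sup id
    haveI : (T ⊓ M).Normal := Subgroup.normal_inf_normal T M
    rcases hTs.eq_bot_or_eq_top_of_normal ((T ⊓ M).subgroupOf T) inferInstance with h | h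
    · have hinf : T ⊓ M = ⊥ := by
        rw [Subgroup.subgroupOf_eq_bot, disjoint_iff, inf_eq_left.mpr inf_le_left] at h
        exact h
      have hker : Function.Injective ((QuotientGroup.mk' M).comp T.subtype) := by
        rw [← MonoidHom.ker_eq_bot_iff, Subgroup.eq_bot_iff_forall]
        intro x hx
        have : (x : G) ∈ T ⊓ M := ⟨x.2, (QuotientGroup.eq_one_iff _).mp hx⟩
        rw [hinf] at this
        exact Subtype.ext this
      have hmap : (T ⊔ M).map (QuotientGroup.mk' M) = ((QuotientGroup.mk' M).comp T.subtype).range := by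
        rw [Subgroup.map_sup, (Subgroup.map_eq_bot_iff M).mpr (QuotientGroup.ker_mk' M).symm.le, sup_bot_eq,
          MonoidHom.range_comp, Subgroup.range_subtype]
      let e := MonoidHom.ofInjective hker
      refine ⟨k + 1, Subgroup.sup_normal T M, ?_, ?_⟩
      · have h1 := Subgroup.card_mul_index (M.subgroupOf (T ⊔ M))
        rw [Nat.card_congr (Subgroup.subgroupOfEquivOfLe (le_sup_right : M ≤ T ⊔ M)).toEquiv, hcard,
          ← Subgroup.relIndex, Subgroup.relIndex_sup_right, Subgroup.relIndex,
          ← Subgroup.inf_subgroupOf_left, hinf, Subgroup.bot_subgroupOf, Subgroup.index_bot, hTt] at h1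
        rw [← h1, pow_succ]
      · refine bound_quotient M (by rw [inf_eq_right.mpr le_sup_right]; exact hb) ?_
        rw [hmap]
        haveI := hTs
        exact bound_one_of_simple (e.isSimpleGroup_congr.mp inferInstance)
    · have hle : T ≤ M := (Subgroup.subgroupOf_eq_top.mp h).trans inf_le_right
      rw [sup_eq_right.mpr hle]
      exact ⟨k, hn, hcard, hb⟩

theorem isMulCommutative_of_pGroup_simple {T : Type*} [Group T] [Finite T] {p : ℕ} [Fact p.Prime]
    [IsSimpleGroup T] (h : IsPGroup p T) (a b : T) : a * b = b * a := by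
  haveI := h.center_nontrivial
  rcases IsSimpleGroup.eq_bot_or_eq_top_of_normal (Subgroup.center T) inferInstance with h' | h'
  · exact absurd h' ((Subgroup.nontrivial_iff_ne_bot _).mp inferInstance)
  · have : a ∈ Subgroup.center T := by rw [h']; trivial
    exact (Subgroup.mem_center_iff.mp this b).symm

/-- A minimal normal subgroup is abelian or all its subnormal chains are bounded by the
`p`-adic valuation of its order, for a suitable prime `p` with a non-normal Sylow subgroup. -/
theorem minimalNormal_bound [Finite G] (N : Subgroup G) [hN : N.Normal] (hN0 : N ≠ ⊥)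
    (hmin : ∀ M : Subgroup G, M.Normal → M ≤ N → M = ⊥ ∨ M = N)
    (hna : ¬ ∀ a ∈ N, ∀ b ∈ N, a * b = b * a) :
    ∃ p, p.Prime ∧ ∃ Q : Sylow p N, Bound (⊤ : Subgroup N) (Ω (Nat.card Q)) ∧
      ¬ ((Q : Subgroup N).map N.subtype).Normal := by
  classical
  haveI : Fintype (Subgroup N) := Fintype.ofFinite _
  haveI hNt : Nontrivial N := (Subgroup.nontrivial_iff_ne_bot N).mpr hN0
  obtain ⟨T, ⟨hTn, hT0⟩, hTmin⟩ := Set.Finite.exists_minimal (α := Subgroup N)
    (s := {T : Subgroup N | T.Normal ∧ T ≠ ⊥}) (Set.toFinite _) ⟨⊤, inferInstance, top_ne_bot⟩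
  have hTmin' : ∀ U : Subgroup N, U.Normal → U ≤ T → U = ⊥ ∨ U = T := by
    intro U hU hUT
    by_cases h0 : U = ⊥
    · exact Or.inl h0
    · exact Or.inr (le_antisymm hUT (hTmin ⟨hU, h0⟩ hUT))
  let S : Finset (Subgroup N) := Finset.univ.filter fun U => ∃ g : G, U = T.map (MulAut.conjNormal g : MulAut N).toMonoidHom
  have hSnorm : ∀ U ∈ S, U.Normal := by
    intro U hU
    obtain ⟨g, rfl⟩ := (Finset.mem_filter.mp hU).2
    exact hTn.map _ (MulEquiv.surjective _)
  have hSup : S.sup id = ⊤ := by
    set W := (S.sup id).map N.subtype with hW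
    have hWn : W.Normal := by
      have key : ∀ g : G, ∀ x ∈ S.sup id, (MulAut.conjNormal g : MulAut N) x ∈ S.sup id := by
        intro g
        have hle : (S.sup id).map (MulAut.conjNormal g : MulAut N).toMonoidHom ≤ S.sup id := by
          rw [Subgroup.map_le_iff_le_comap]
          refine Finset.sup_le fun U hU => ?_
          rw [id_eq, ← Subgroup.map_le_iff_le_comap]
          obtain ⟨h, rfl⟩ := (Finset.mem_filter.mp hU).2
          refine Finset.le_sup (f := id) (Finset.mem_filter.mpr ⟨Finset.mem_univ _, g * h, ?_⟩)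
          refine (Subgroup.map_map T _ _).trans ?_
          rw [map_mul]
          rfl
        exact fun x hx => hle ⟨x, hx, rfl⟩
      refine ⟨fun x hx g => ?_⟩
      obtain ⟨y, hy, rfl⟩ := hx
      exact ⟨_, key g y hy, MulAut.conjNormal_apply g y⟩
    rcases hmin W hWn (Subgroup.map_subtype_le _) with h | h
    · exfalso
      apply hT0
      have hTS : T ∈ S := Finset.mem_filter.mpr ⟨Finset.mem_univ _, 1, by rw [map_one]; exact (Subgroup.map_id T).symm⟩
      rw [hW, Subgroup.map_eq_bot_iff_of_injective _ N.subtype_injective] at h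
      exact le_bot_iff.mp (h ▸ Finset.le_sup (f := id) hTS)
    · rw [hW] at h
      refine top_unique fun x _ => ?_
      have : (x : G) ∈ (S.sup id).map N.subtype := by rw [h]; exact x.2
      obtain ⟨y, hy, hxy⟩ := this
      rwa [← N.subtype_injective hxy]
  have hTs : IsSimpleGroup T := by
    haveI : Nontrivial T := (Subgroup.nontrivial_iff_ne_bot T).mpr hT0
    refine ⟨fun V hV => ?_⟩
    have hVn : (V.map T.subtype).Normal := by
      refine Subgroup.normalizer_eq_top_iff.mp (top_unique ?_)
      rw [← hSup]
      refine Finset.sup_le fun U hU => ?_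
      show U ≤ Subgroup.normalizer _
      haveI := hSnorm U hU
      haveI : (T ⊓ U).Normal := Subgroup.normal_inf_normal T U
      rcases hTmin' (T ⊓ U) inferInstance inf_le_left with h | h
      · intro u hu
        rw [Subgroup.mem_normalizer_iff]
        intro x
        have hc : ∀ y ∈ T, u * y * u⁻¹ = y := fun y hy =>
          mul_inv_eq_of_eq_mul (Subgroup.commute_of_normal_of_disjoint U T inferInstance hTn
            (by rw [disjoint_comm, disjoint_iff, h]) u y hu hy)
        constructor
        · rintro ⟨y, hy, rfl⟩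
          exact ⟨y, hy, (hc _ y.2).symm⟩
        · rintro ⟨y, hy, hxy⟩
          refine ⟨y, hy, ?_⟩
          have h2 := hc _ y.2
          have h3 : u * (y : N) * u⁻¹ = u * x * u⁻¹ := by rw [h2]; exact hxy
          simpa using h3
      · obtain ⟨g, rfl⟩ := (Finset.mem_filter.mp hU).2
        have hle : T ≤ T.map (MulAut.conjNormal g : MulAut N).toMonoidHom := inf_eq_left.mp h
        have heq := SetLike.coe_injective (Set.eq_of_subset_of_ncard_le hle
          (by rw [Subgroup.coe_map]; exact (Set.ncard_image_of_injective _ (MulAut.conjNormal g : MulAut N).injective).le) (Set.toFinite _))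
        rw [← heq]
        intro u hu
        rw [Subgroup.mem_normalizer_iff]
        intro x
        constructor
        · rintro ⟨y, hy, rfl⟩
          exact ⟨⟨u, hu⟩ * y * ⟨u, hu⟩⁻¹, hV.conj_mem y hy _, rfl⟩
        · rintro ⟨y, hy, hxy⟩
          refine ⟨⟨u, hu⟩⁻¹ * y * ⟨u, hu⟩⁻¹⁻¹, hV.conj_mem y hy _, ?_⟩
          have hxy' : (y : N) = u * x * u⁻¹ := hxy
          show u⁻¹ * (y : N) * u⁻¹⁻¹ = x
          rw [hxy']
          group
    rcases hTmin' _ hVn (Subgroup.map_subtype_le _) with h | h
    · exact Or.inl ((Subgroup.map_eq_bot_iff_of_injective _ T.subtype_injective).mp h)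
    · refine Or.inr (top_unique fun x _ => ?_)
      have : (x : N) ∈ V.map T.subtype := by rw [h]; exact x.2
      obtain ⟨y, hy, hxy⟩ := this
      rwa [← T.subtype_injective hxy]
  have hScard : ∀ U ∈ S, U.Normal ∧ IsSimpleGroup U ∧ Nat.card U = Nat.card T := by
    intro U hU
    refine ⟨hSnorm U hU, ?_⟩
    obtain ⟨g, rfl⟩ := (Finset.mem_filter.mp hU).2
    let e := T.equivMapOfInjective (MulAut.conjNormal g : MulAut N).toMonoidHom (MulEquiv.injective _)
    exact ⟨e.isSimpleGroup_congr.mp hTs, (Nat.card_congr e.toEquiv).symm⟩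
  obtain ⟨k, -, hcard, hbound⟩ := exists_bound_of_simple_normal S hScard
  rw [hSup] at hbound hcard
  rw [Subgroup.card_top] at hcard
  obtain ⟨p, hp, hpT⟩ : ∃ p, p.Prime ∧ p ∣ Nat.card T :=
    Nat.exists_prime_and_dvd ((Subgroup.one_lt_card_iff_ne_bot T).mpr hT0).ne'
  haveI := Fact.mk hp
  obtain ⟨Q⟩ : Nonempty (Sylow p N) := inferInstance
  have hQ : Nat.card Q = p ^ (k * (Nat.card T).factorization p) := by
    rw [Q.card_eq_multiplicity, hcard, Nat.factorization_pow, Finsupp.smul_apply, smul_eq_mul]
  refine ⟨p, hp, Q, ?_, ?_⟩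
  · intro j hj
    refine (hbound j hj).trans ?_
    rw [hQ, cardFactors_apply_prime_pow hp]
    exact Nat.le_mul_of_pos_right k (hp.factorization_pos_of_dvd Nat.card_pos.ne' hpT)
  · intro hQn
    rcases hmin _ hQn (Subgroup.map_subtype_le _) with h | h
    · rw [Subgroup.map_eq_bot_iff_of_injective _ N.subtype_injective] at h
      have h1 : Nat.card Q = 1 := by
        show Nat.card (Q : Subgroup N) = 1
        rw [h]; exact Subgroup.card_bot
      rw [hQ, Nat.pow_eq_one] at h1
      rcases h1 with h1 | h1
      · exact hp.ne_one h1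
      · rcases Nat.mul_eq_zero.mp h1 with h2 | h2
        · rw [h2, pow_zero] at hcard
          haveI := (Nat.card_eq_one_iff_unique.mp hcard).1
          exact hna fun a ha b hb => congrArg Subtype.val (Subsingleton.elim
            ((⟨a, ha⟩ : N) * ⟨b, hb⟩) (⟨b, hb⟩ * ⟨a, ha⟩))
        · exact (hp.factorization_pos_of_dvd Nat.card_pos.ne' hpT).ne' h2
    · have hpN : IsPGroup p N := by
        have h1 := Q.2.map N.subtype
        rw [h] at h1
        exact h1
      haveI := hTs
      have hTc : ∀ a b : T, a * b = b * a := isMulCommutative_of_pGroup_simple (hpN.to_subgroup T)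
      -- the simple subgroups commute with each other and are abelian, so `N` is abelian
      have hcomm : ∀ U ∈ S, U ≤ Subgroup.center N := by
        intro U hU
        refine le_trans ?_ (Subgroup.centralizer_univ (G := N)).le
        rw [← Subgroup.coe_top, ← hSup, Subgroup.le_centralizer_iff]
        refine Finset.sup_le fun V hV => ?_
        intro v hv
        rw [Subgroup.mem_centralizer_iff]
        intro u hu
        obtain ⟨g, hg⟩ := (Finset.mem_filter.mp hU).2
        obtain ⟨hUn, hUs, -⟩ := hScard U hU
        obtain ⟨hVn, -, -⟩ := hScard V hV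
        haveI := hVn
        haveI := hUn
        rcases hUs.eq_bot_or_eq_top_of_normal ((V ⊓ U).subgroupOf U) inferInstance with h' | h'
        · rw [Subgroup.subgroupOf_eq_bot, disjoint_iff, inf_eq_left.mpr inf_le_right] at h'
          exact (Subgroup.commute_of_normal_of_disjoint V U hVn hUn (disjoint_iff.mpr h') v u hv hu).symm
        · have hUV : U ≤ V := (Subgroup.subgroupOf_eq_top.mp h').trans inf_le_left
          have heq : U = V := SetLike.coe_injective (Set.eq_of_subset_of_ncard_le hUV
            (by rw [← Nat.card_coe_set_eq, ← Nat.card_coe_set_eq]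
                exact ((hScard U hU).2.2.trans (hScard V hV).2.2.symm).symm.le) (Set.toFinite _))
          rw [← heq, hg] at hv
          rw [hg] at hu
          obtain ⟨a, ha, rfl⟩ := hu
          obtain ⟨b, hb, rfl⟩ := hv
          rw [← map_mul, ← map_mul]
          exact congrArg _ (congrArg Subtype.val (hTc ⟨a, ha⟩ ⟨b, hb⟩))
      have hcen : Subgroup.center N = ⊤ := top_unique (hSup ▸ Finset.sup_le hcomm)
      apply hna
      intro a ha b hb
      have : (⟨a, ha⟩ : N) ∈ Subgroup.center N := by rw [hcen]; trivial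
      exact congrArg Subtype.val (Subgroup.mem_center_iff.mp this ⟨b, hb⟩).symm

/-- Every finite group has a solvable subgroup whose order has at least as many prime factors
(with multiplicity) as any subnormal chain has steps. -/
theorem exists_solvable_bound (n : ℕ) : ∀ (G : Type*) [Group G] [Finite G], Nat.card G = n →
    ∃ S : Subgroup G, Group.IsSolvable S ∧ Bound (⊤ : Subgroup G) (Ω (Nat.card S)) := by
  induction n using Nat.strong_induction_on with
  | _ n ih =>
    intro G _ _ hn
    classical
    rcases subsingleton_or_nontrivial G with hG | hG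
    · exact ⟨⊤, inferInstance, bound_cardFactors ⊤⟩
    obtain ⟨N, ⟨hN, hN0⟩, hmin⟩ := Set.Finite.exists_minimal (α := Subgroup G)
      (s := {N : Subgroup G | N.Normal ∧ N ≠ ⊥}) (Set.toFinite _) ⟨⊤, inferInstance, top_ne_bot⟩
    haveI := hN
    have hmin' : ∀ M : Subgroup G, M.Normal → M ≤ N → M = ⊥ ∨ M = N := by
      intro M hM hMN
      by_cases h0 : M = ⊥
      · exact Or.inl h0
      · exact Or.inr (le_antisymm hMN (hmin ⟨hM, h0⟩ hMN))
    by_cases hab : ∀ a ∈ N, ∀ b ∈ N, a * b = b * a
    · have hlt : Nat.card (G ⧸ N) < n := by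
        rw [← hn, Subgroup.card_eq_card_quotient_mul_card_subgroup N]
        exact lt_mul_of_one_lt_right Nat.card_pos ((Subgroup.one_lt_card_iff_ne_bot N).mpr hN0)
      obtain ⟨S, hS, hSb⟩ := ih _ hlt (G ⧸ N) rfl
      refine ⟨S.comap (QuotientGroup.mk' N), ?_, ?_⟩
      · haveI := hS
        haveI : Group.IsSolvable N := Group.isSolvable_of_comm fun a b => Subtype.ext (hab a a.2 b b.2)
        let f : S.comap (QuotientGroup.mk' N) →* S := (QuotientGroup.mk' N).subgroupComap S
        let i : N →* S.comap (QuotientGroup.mk' N) := Subgroup.inclusion fun x hx => by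
          rw [Subgroup.mem_comap, QuotientGroup.mk'_apply, (QuotientGroup.eq_one_iff x).mpr hx]; exact S.one_mem
        refine Group.isSolvable_of_ker_le_range i f fun x hx => ?_
        have hxN : (x : G) ∈ N := (QuotientGroup.eq_one_iff _).mp (congrArg Subtype.val (MonoidHom.mem_ker.mp hx))
        exact ⟨⟨x, hxN⟩, Subtype.ext rfl⟩
      · have hc : Nat.card (S.comap (QuotientGroup.mk' N)) = Nat.card N * Nat.card S := by
          have h1 := Subgroup.card_mul_index (N.subgroupOf (S.comap (QuotientGroup.mk' N)))
          have hle : N ≤ S.comap (QuotientGroup.mk' N) := fun x hx => by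
            rw [Subgroup.mem_comap, QuotientGroup.mk'_apply, (QuotientGroup.eq_one_iff x).mpr hx]; exact S.one_mem
          rw [Nat.card_congr (Subgroup.subgroupOfEquivOfLe hle).toEquiv] at h1
          rw [← h1]
          congr 1
          have hk : N.subgroupOf (S.comap (QuotientGroup.mk' N)) = ((QuotientGroup.mk' N).subgroupComap S).ker := by
            ext x
            rw [Subgroup.mem_subgroupOf, MonoidHom.mem_ker, Subtype.ext_iff]
            exact (QuotientGroup.eq_one_iff (x : G)).symm
          rw [hk, Subgroup.index_ker, MonoidHom.range_eq_top.mpr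
            ((QuotientGroup.mk' N).subgroupComap_surjective_of_surjective S (QuotientGroup.mk'_surjective N)),
            Subgroup.card_top]
        rw [hc, cardFactors_mul Nat.card_pos.ne' Nat.card_pos.ne']
        refine bound_quotient N (by rw [top_inf_eq]; exact bound_cardFactors N) ?_
        rw [Subgroup.map_top_of_surjective _ (QuotientGroup.mk'_surjective N)]
        exact hSb
    · obtain ⟨p, hp, Q, hQb, hQn⟩ := minimalNormal_bound N hN0 hmin' hab
      haveI := Fact.mk hp
      set P := (Q : Subgroup N).map N.subtype with hP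
      set H := Subgroup.normalizer (P : Set G) with hH
      have hPH : P ≤ H := Subgroup.le_normalizer
      haveI : (P.subgroupOf H).Normal := Subgroup.normal_in_normalizer
      have hHne : H ≠ ⊤ := fun h => hQn (Subgroup.normalizer_eq_top_iff.mp h)
      have hlt : Nat.card (H ⧸ P.subgroupOf H) < n := by
        refine lt_of_le_of_lt (Nat.card_le_card_of_surjective _ (QuotientGroup.mk'_surjective (P.subgroupOf H))) ?_
        rw [← hn]
        refine lt_of_le_of_ne (Nat.card_le_card_of_injective _ H.subtype_injective) fun h => hHne ?_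
        exact Subgroup.eq_top_of_card_eq H h
      obtain ⟨S, hS, hSb⟩ := ih _ hlt (H ⧸ P.subgroupOf H) rfl
      let U : Subgroup H := S.comap (QuotientGroup.mk' (P.subgroupOf H))
      have hcover : H ⊔ N = ⊤ := Sylow.normalizer_sup_eq_top Q
      let φ : H ⧸ P.subgroupOf H →* G ⧸ N := QuotientGroup.map (P.subgroupOf H) N H.subtype
        (fun x hx => Subgroup.map_subtype_le (H := N) _ hx)
      have hφ : Function.Surjective φ := by
        intro y
        obtain ⟨g, rfl⟩ := QuotientGroup.mk'_surjective N y
        have hg : g ∈ ((H ⊔ N : Subgroup G) : Set G) := by rw [hcover]; trivial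
        rw [Subgroup.mul_normal] at hg
        obtain ⟨h, hh, m, hm, rfl⟩ := hg
        refine ⟨QuotientGroup.mk' _ ⟨h, hh⟩, ?_⟩
        show QuotientGroup.mk' N h = QuotientGroup.mk' N (h * m)
        exact QuotientGroup.eq.mpr (by simpa using hm)
      refine ⟨U.map H.subtype, ?_, ?_⟩
      · haveI := hS
        haveI hPs : Group.IsSolvable (P.subgroupOf H) := by
          haveI : Group.IsSolvable P := by
            haveI := (Q.2.map N.subtype).isNilpotent
            infer_instance
          exact Group.isSolvable_of_isSolvable_injective (f := (Subgroup.subgroupOfEquivOfLe hPH).toMonoidHom)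
            (Subgroup.subgroupOfEquivOfLe hPH).injective
        have hU : Group.IsSolvable U := by
          let f : U →* S := (QuotientGroup.mk' (P.subgroupOf H)).subgroupComap S
          let i : P.subgroupOf H →* U := Subgroup.inclusion fun x hx => by
            rw [Subgroup.mem_comap, QuotientGroup.mk'_apply, (QuotientGroup.eq_one_iff x).mpr hx]; exact S.one_mem
          refine Group.isSolvable_of_ker_le_range i f fun x hx => ?_
          have hxN : (x : H) ∈ P.subgroupOf H :=
            (QuotientGroup.eq_one_iff _).mp (congrArg Subtype.val (MonoidHom.mem_ker.mp hx))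
          exact ⟨⟨x, hxN⟩, Subtype.ext rfl⟩
        haveI := hU
        exact Group.isSolvable_of_surjective (f := H.subtype.subgroupMap U) (H.subtype.subgroupMap_surjective U)
      · have hcU : Nat.card (U.map H.subtype) = Nat.card Q * Nat.card S := by
          rw [Subgroup.card_map_of_injective H.subtype_injective]
          have h1 := Subgroup.card_mul_index ((P.subgroupOf H).subgroupOf U)
          have hle : P.subgroupOf H ≤ U := fun x hx => by
            rw [Subgroup.mem_comap, QuotientGroup.mk'_apply, (QuotientGroup.eq_one_iff x).mpr hx]; exact S.one_mem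
          rw [Nat.card_congr (Subgroup.subgroupOfEquivOfLe hle).toEquiv,
            Nat.card_congr (Subgroup.subgroupOfEquivOfLe hPH).toEquiv,
            hP, Subgroup.card_map_of_injective N.subtype_injective] at h1
          rw [← h1]
          congr 1
          have hk : (P.subgroupOf H).subgroupOf U = ((QuotientGroup.mk' (P.subgroupOf H)).subgroupComap S).ker := by
            ext x
            rw [Subgroup.mem_subgroupOf, MonoidHom.mem_ker, Subtype.ext_iff]
            exact (QuotientGroup.eq_one_iff (x : H)).symm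
          rw [hk, Subgroup.index_ker, MonoidHom.range_eq_top.mpr
            ((QuotientGroup.mk' _).subgroupComap_surjective_of_surjective S (QuotientGroup.mk'_surjective _)),
            Subgroup.card_top]
        rw [hcU, cardFactors_mul Nat.card_pos.ne' Nat.card_pos.ne']
        refine bound_quotient N ?_ ?_
        · rw [top_inf_eq]
          intro j hj
          obtain ⟨hj', -⟩ : Ch (N.comap N.subtype) j ∧ True := by
            refine ⟨?_, trivial⟩
            clear hSb
            suffices ∀ (K : Subgroup G) (i : ℕ), Ch K i → K ≤ N → Ch (K.comap N.subtype) i from this N j hj le_rfl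
            intro K i hK
            induction hK with
            | bot =>
              intro _
              rw [MonoidHom.comap_bot, (MonoidHom.ker_eq_bot_iff _).mpr N.subtype_injective]
              exact Ch.bot
            | @step A B i _ hlt hn ihA =>
              intro hB
              refine (ihA (hlt.le.trans hB)).step ?_ fun h hh k hk => hn _ hh _ hk
              refine lt_of_le_of_ne (Subgroup.comap_mono hlt.le) fun heq => hlt.not_ge fun x hx => ?_
              have : (⟨x, hB hx⟩ : N) ∈ A.comap N.subtype := by rw [heq]; exact hx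
              exact this
          have h2 : N.comap N.subtype = ⊤ := top_unique fun x _ => x.2
          rw [h2] at hj'
          exact hQb j hj'
        · rw [Subgroup.map_top_of_surjective _ (QuotientGroup.mk'_surjective N)]
          intro j hj
          obtain ⟨a, ha, hja⟩ := hj.comap φ hφ
          rw [Subgroup.comap_top] at ha
          exact hja.trans (hSb a ha)

theorem exists_solvable_chain_le [Finite G] {l : ℕ} (H : Fin (l + 1) → Subgroup G) (h0 : H 0 = ⊥)
    (hl : H (Fin.last l) = ⊤)
    (hchain : ∀ i : Fin l, H i.castSucc < H i.succ ∧ ((H i.castSucc).subgroupOf (H i.succ)).Normal) :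
    ∃ S : Subgroup G, Group.IsSolvable S ∧ l ≤ Ω (Nat.card S) := by
  obtain ⟨S, hS, hb⟩ := exists_solvable_bound (Nat.card G) G rfl
  exact ⟨S, hS, hb l (hl ▸ ch_of_chain H h0 hchain)⟩

end Cfsg.Agent.Lib.CompLength
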