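import Mathlib
import Cfsg.Prelude.Def_Transfer
import Cfsg.Agent.Lib.SL2.Basic
import Cfsg.Agent.Lib.SuzukiSylow.Borel

/-!
In `SL₂(q)`, a Suzuki group or a dihedral group of order `2r`, the only nontrivial elementary abelian
normal `p`-subgroup of the normalizer of an elementary abelian `p`-subgroup `Y` of order `q` is `Y`.
-/

set_option autoImplicit false

namespace Cfsg.Agent.Lib.NormalEA55

open Subgroup

/-- An elementary abelian subgroup is a `p`-group. -/
theorem isPGroup_of_EA {X : Type*} [Group X] {p : ℕ} {A : Subgroup X}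
    (h : Cfsg.IsElementaryAbelian p A) : IsPGroup p A := fun a =>
  ⟨1, Subtype.ext (by simpa using h.2 a a.2)⟩

theorem EA_map {X X' : Type*} [Group X] [Group X'] {p : ℕ} {A : Subgroup X}
    (h : Cfsg.IsElementaryAbelian p A) (f : X →* X') : Cfsg.IsElementaryAbelian p (A.map f) := by
  haveI := h.1
  refine ⟨⟨⟨?_⟩⟩, ?_⟩
  · rintro ⟨_, a, ha, rfl⟩ ⟨_, b, hb, rfl⟩
    refine Subtype.ext ?_
    show f a * f b = f b * f a
    rw [← map_mul, ← map_mul]
    exact congrArg f (congrArg Subtype.val (mul_comm' (⟨a, ha⟩ : A) ⟨b, hb⟩))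
  · rintro _ ⟨a, ha, rfl⟩
    rw [← map_pow, h.2 a ha, map_one]

/-- `Y` is the only normal elementary abelian `p`-subgroup of its normalizer. -/
def OnlyEA {X : Type*} [Group X] (p : ℕ) (Y : Subgroup X) : Prop :=
  ∀ V : Subgroup X, V ≤ normalizer (Y : Set X) → normalizer (Y : Set X) ≤ normalizer (V : Set X) →
    Cfsg.IsElementaryAbelian p V → V ≠ ⊥ → V = Y

/-- Transfer along an isomorphism. -/
theorem OnlyEA.of_equiv {X X' : Type*} [Group X] [Group X'] {p : ℕ} {Y : Subgroup X} (e : X ≃* X')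
    (h : OnlyEA p (Y.map e.toMonoidHom)) : OnlyEA p Y := by
  intro V hVN hNV hV hV1
  have hmap : ∀ W : Subgroup X, (normalizer (W : Set X)).map e.toMonoidHom =
      normalizer ((W.map e.toMonoidHom : Subgroup X') : Set X') := fun W =>
    map_normalizer_eq_of_bijective W e.bijective
  refine map_injective e.injective (h (V.map e.toMonoidHom) ?_ ?_ (EA_map hV _) ?_)
  · rw [← hmap]; exact map_mono hVN
  · rw [← hmap, ← hmap]; exact map_mono hNV
  · rwa [Ne, map_eq_bot_iff_of_injective _ e.injective]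

/-- A normal `p`-subgroup lies in a Sylow subgroup normalizing it. -/
theorem le_sylow_of_normalizes {X : Type*} [Group X] {p : ℕ} [Fact p.Prime] (P : Sylow p X)
    {V : Subgroup X} (hV : IsPGroup p V) (hP : (P : Subgroup X) ≤ normalizer (V : Set X)) :
    V ≤ P := by
  have hW : IsPGroup p ↥((P : Subgroup X) ⊔ V) := P.isPGroup'.to_sup_of_normal_right' hV hP
  exact le_sup_right.trans (P.3 hW le_sup_left).le

section SL2

open Cfsg.Agent.Lib.SL2

variable {F : Type*} [Field F] [Fintype F] {p : ℕ} [hp : Fact p.Prime]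

theorem charP_of_card {k : ℕ} (hq : Fintype.card F = p ^ k) : CharP F p := by
  have hk : k ≠ 0 := by
    rintro rfl
    exact (Fintype.one_lt_card (α := F)).ne' (by simpa using hq)
  have h : ((p : F)) = 0 := by
    have h1 := Nat.cast_card_eq_zero F
    rw [hq, Nat.cast_pow] at h1
    exact pow_eq_zero_iff hk |>.1 h1
  exact (CharP.charP_iff_prime_eq_zero hp.out).2 h

/-- Additive subgroups invariant under squares are trivial or everything. -/
theorem all_mem_of_sq {W : AddSubgroup F} (hsq : ∀ a t : F, t ∈ W → a ^ 2 * t ∈ W)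
    {t₀ : F} (ht₀ : t₀ ∈ W) (h0 : t₀ ≠ 0) (x : F) : x ∈ W := by
  have key : ∀ c : F, c * t₀ ∈ W := by
    intro c
    rcases eq_or_ne (2 : F) 0 with h2 | h2
    · obtain ⟨s, rfl⟩ := FiniteField.isSquare_of_char_two (by
        haveI := CharTwo.of_one_ne_zero_of_two_eq_zero (R := F) one_ne_zero h2
        exact ringChar.eq F 2) c
      rw [← sq]
      exact hsq s t₀ ht₀
    · rw [show c * t₀ = ((c + 1) / 2) ^ 2 * t₀ - ((c - 1) / 2) ^ 2 * t₀ by field_simp; ring]
      exact W.sub_mem (hsq _ _ ht₀) (hsq _ _ ht₀)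
  have h := key (x / t₀)
  rwa [div_mul_cancel₀ x h0] at h

theorem onlyEA_SLtwo {Y : Subgroup (SLtwo F)} (hY : Cfsg.IsElementaryAbelian p Y)
    (hcard : Nat.card Y = Fintype.card F) : OnlyEA p Y := by
  obtain ⟨k, hk⟩ := IsPGroup.iff_card.1 (isPGroup_of_EA hY)
  have hq : Fintype.card F = p ^ k := hcard.symm.trans hk
  haveI := charP_of_card (F := F) hq
  have hk0 : k ≠ 0 := by
    rintro rfl
    exact (Fintype.one_lt_card (α := F)).ne' (by simpa using hq)
  have hfac : (Nat.card (SLtwo F)).factorization p = k := by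
    rw [card_SLtwo, hq]
    have h1 : 1 < (p ^ k) ^ 2 := Nat.one_lt_pow (by norm_num) (Nat.one_lt_pow hk0 hp.out.one_lt)
    rw [Nat.factorization_mul (pow_ne_zero _ hp.out.ne_zero) (by omega),
      Nat.Prime.factorization_pow hp.out]
    have h2 : ¬ p ∣ (p ^ k) ^ 2 - 1 := fun hd => by
      have hd' : p ∣ (p ^ k) ^ 2 := dvd_pow (dvd_pow_self p hk0) two_ne_zero
      exact hp.out.not_dvd_one (by
        have := Nat.dvd_sub hd' hd
        rwa [Nat.sub_sub_self h1.le] at this)
    simp [Nat.factorization_eq_zero_of_not_dvd h2]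
  set U : Subgroup (SLtwo F) := (upperHom (F := F)).range with hU
  have hUcard : Nat.card U = Fintype.card F := by
    rw [hU, ← Nat.card_congr (MonoidHom.ofInjective upperHom_injective).toEquiv,
      Nat.card_congr Multiplicative.toAdd, Nat.card_eq_fintype_card]
  let PY : Sylow p (SLtwo F) := Sylow.ofCard Y (by rw [hfac, hk])
  let PU : Sylow p (SLtwo F) := Sylow.ofCard U (by rw [hfac, hUcard, hq])
  obtain ⟨x, hx⟩ := MulAction.exists_smul_eq (SLtwo F) PY PU
  refine OnlyEA.of_equiv (MulAut.conj x) ?_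
  have hYU : Y.map (MulAut.conj x : SLtwo F ≃* SLtwo F).toMonoidHom = U := by
    have h := congrArg (fun P : Sylow p (SLtwo F) => (P : Subgroup (SLtwo F))) hx
    simp only [Sylow.coe_subgroup_smul] at h
    exact h
  rw [hYU]
  intro V hVN hNV hV hV1
  have hVU : V ≤ U := le_sylow_of_normalizes PU (isPGroup_of_EA hV) (Subgroup.le_normalizer.trans hNV)
  have hmemU : ∀ t : F, upper t ∈ U := fun t => ⟨Multiplicative.ofAdd t, rfl⟩
  have hdiag : ∀ a : Fˣ, diag a ∈ normalizer (U : Set (SLtwo F)) := by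
    intro a
    rw [mem_normalizer_iff]
    intro g
    constructor
    · rintro ⟨t, rfl⟩
      show diag a * upper t.toAdd * (diag a)⁻¹ ∈ U
      rw [diag_conj_upper]
      exact hmemU _
    · rintro ⟨t, ht⟩
      have hg : g = diag a⁻¹ * upper t.toAdd * (diag a⁻¹)⁻¹ := by
        rw [show upper t.toAdd = diag a * g * (diag a)⁻¹ from ht, ← diag_inv]
        group
      rw [hg, diag_conj_upper]
      exact hmemU _
  let W : AddSubgroup F :=
    { carrier := {t | upper t ∈ V}
      zero_mem' := by show upper 0 ∈ V; rw [upper_zero]; exact one_mem V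
      add_mem' := fun {s t} hs ht => by show upper (s + t) ∈ V; rw [← upper_mul]; exact mul_mem hs ht
      neg_mem' := fun {t} ht => by show upper (-t) ∈ V; rw [← upper_inv]; exact inv_mem ht }
  have hsq : ∀ a t : F, t ∈ W → a ^ 2 * t ∈ W := by
    intro a t ht
    rcases eq_or_ne a 0 with rfl | ha
    · simp
    · have h := (mem_normalizer_iff.1 (hNV (hdiag (Units.mk0 a ha))) (upper t)).1 ht
      rw [diag_conj_upper] at h
      exact h
  obtain ⟨v, hv, hv1⟩ := V.ne_bot_iff_exists_ne_one.1 hV1 |> fun ⟨⟨v, hv⟩, h⟩ =>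
    (⟨v, hv, fun e => h (Subtype.ext e)⟩ : ∃ v, v ∈ V ∧ v ≠ 1)
  obtain ⟨t₀, rfl⟩ := hVU hv
  refine le_antisymm hVU ?_
  rintro _ ⟨t, rfl⟩
  exact all_mem_of_sq hsq (t₀ := t₀.toAdd) hv
    (fun e => hv1 (by show upper t₀.toAdd = 1; rw [e, upper_zero])) t.toAdd

end SL2

section Suzuki

open Cfsg.Agent.Lib.Suzuki Cfsg.Agent.Lib.SuzukiSylow

variable {F : Type*} [Field F] [Fintype F] {m : ℕ}

theorem onlyEA_Sz (h : Hyp F m) {Y : Subgroup (Cfsg.Sz F m)} (hY : Cfsg.IsElementaryAbelian 2 Y)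
    (hcard : Nat.card Y = Fintype.card F) : OnlyEA 2 Y := by
  haveI := Fact.mk Nat.prime_two
  haveI := finite_Sz h
  obtain ⟨P, hYP⟩ := (isPGroup_of_EA hY).exists_le_sylow
  obtain ⟨x, hx⟩ := exists_conj_transl h P
  refine OnlyEA.of_equiv (MulAut.conj x⁻¹) ?_
  set Y' := Y.map (MulAut.conj x⁻¹ : Cfsg.Sz F m ≃* Cfsg.Sz F m).toMonoidHom with hY'
  have hY'T : Y' ≤ transl h := by
    rintro _ ⟨y, hy, rfl⟩
    obtain ⟨z, hz, hzy⟩ := hx.le (hYP hy)
    rw [← hzy]
    simpa [mul_assoc] using hz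
  have hsq : ∀ y ∈ transl h, y ^ 2 = 1 → ∃ b, y = szT h 0 b := by
    rintro _ ⟨a, b, rfl⟩ hy
    rw [transl_sq, ← szT_one h] at hy
    rcases mul_eq_zero.1 (szT_inj h hy).2 with h1 | h1
    · exact ⟨b, by rw [theta_eq_zero.1 h1]⟩
    · exact ⟨b, by rw [h1]⟩
  have hY'EA := EA_map hY (MulAut.conj x⁻¹ : Cfsg.Sz F m ≃* Cfsg.Sz F m).toMonoidHom
  have hall : ∀ b, szT h 0 b ∈ Y' := by
    let f : Y' → F := fun y => (hsq _ (hY'T y.2) (hY'EA.2 _ y.2)).choose
    have hf : ∀ y : Y', (y : Cfsg.Sz F m) = szT h 0 (f y) := fun y =>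
      (hsq _ (hY'T y.2) (hY'EA.2 _ y.2)).choose_spec
    have hinj : Function.Injective f := fun y y' e => Subtype.ext (by rw [hf y, hf y', e])
    have hbij : Function.Bijective f := (Nat.bijective_iff_injective_and_card f).2 ⟨hinj, by
      rw [hY', card_map_of_injective (MulEquiv.injective _), hcard, Nat.card_eq_fintype_card]⟩
    intro b
    obtain ⟨y, rfl⟩ := hbij.2 b
    rw [← hf y]
    exact y.2
  have hmem : ∀ y ∈ Y', ∃ b, y = szT h 0 b := fun y hy => hsq y (hY'T hy) (hY'EA.2 y hy)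
  intro V hVN hNV hV hV1
  have hTN : transl h ≤ normalizer (Y' : Set (Cfsg.Sz F m)) := by
    refine le_trans ?_ (centralizer_le_normalizer _)
    rintro g ⟨c, d, rfl⟩
    rw [mem_centralizer_iff]
    intro y hy
    obtain ⟨b, rfl⟩ := hmem y hy
    rw [szT_mul, szT_mul]
    simp [theta_zero, add_comm]
  have hHN : ∀ u, szH h u ∈ normalizer (Y' : Set (Cfsg.Sz F m)) := by
    intro u
    have hconj : ∀ (u : Fˣ) b, szH h u * szT h 0 b * (szH h u)⁻¹ =
        szT h 0 ((u : F) ^ 2 * theta m (u : F) * b) := by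
      intro u b
      have h1 := conj_szT h 0 0 0 b u
      simpa [szT_one, theta_zero] using h1
    rw [mem_normalizer_iff]
    intro g
    constructor
    · intro hg
      obtain ⟨b, rfl⟩ := hmem g hg
      rw [hconj]
      exact hall _
    · intro hg
      obtain ⟨b, hb⟩ := hmem _ hg
      have hg' : g = szH h u⁻¹ * szT h 0 b * (szH h u⁻¹)⁻¹ := by
        rw [← hb, ← szH_inv]
        group
      rw [hg', hconj]
      exact hall _
  obtain ⟨e⟩ := transl_sylow_equiv h P
  let PT : Sylow 2 (Cfsg.Sz F m) := Sylow.ofCard (transl h) (by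
    rw [Nat.card_congr e.toEquiv, P.card_eq_multiplicity])
  have hVT : V ≤ transl h := le_sylow_of_normalizes PT (isPGroup_of_EA hV) (hTN.trans hNV)
  refine le_antisymm (fun v hv => ?_) ?_
  · obtain ⟨b, rfl⟩ := hsq v (hVT hv) (hV.2 v hv)
    exact hall b
  obtain ⟨v, hv, hv1⟩ := V.ne_bot_iff_exists_ne_one.1 hV1 |> fun ⟨⟨v, hv⟩, h⟩ =>
    (⟨v, hv, fun e => h (Subtype.ext e)⟩ : ∃ v, v ∈ V ∧ v ≠ 1)
  obtain ⟨b₀, rfl⟩ := hsq v (hVT hv) (hV.2 v hv)
  have hb₀ : b₀ ≠ 0 := fun e => hv1 (by rw [e, szT_one])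
  have hinj : Function.Injective fun u : Fˣ => theta m (u : F) * (u : F) ^ 2 := by
    intro u w e
    simp only at e
    have hw := w.ne_zero
    have hw' := theta_ne_zero (m := m) hw
    have h1 := h.eq_one_of_theta_mul_sq (u := (u : F) / w) (div_ne_zero u.ne_zero hw) (by
      rw [div_eq_mul_inv, theta_mul, theta_inv]
      field_simp
      linear_combination e)
    exact Units.ext ((div_eq_one_iff_eq hw).1 h1)
  intro y hy
  obtain ⟨b, rfl⟩ := hmem y hy
  rcases eq_or_ne b 0 with rfl | hb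
  · rw [szT_one]; exact one_mem V
  have hinj' : Function.Injective fun u : Fˣ =>
      Units.mk0 (theta m (u : F) * (u : F) ^ 2) (mul_ne_zero (theta_ne_zero u.ne_zero)
        (pow_ne_zero _ u.ne_zero)) := fun u w e => hinj (congrArg Units.val e)
  obtain ⟨u, hu⟩ := Finite.injective_iff_surjective.1 hinj'
    (Units.mk0 (b / b₀) (div_ne_zero hb hb₀))
  have hu' : theta m (u : F) * (u : F) ^ 2 = b / b₀ := congrArg Units.val hu
  have h1 := conj_szT h 0 0 0 b₀ u
  simp [szT_one, theta_zero] at h1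
  have h2 := (mem_normalizer_iff.1 (hNV (hHN u)) _).1 hv
  rw [h1, mul_comm ((u : F) ^ 2) _, hu', div_mul_cancel₀ b hb₀] at h2
  exact h2

end Suzuki

theorem onlyEA_dihedral {X : Type*} [Group X] [Finite X] {r : ℕ} (hr : r.Prime) (hr2 : r ≠ 2)
    (hX : Nat.card X = 2 * r) {Y : Subgroup X} (hY : Cfsg.IsElementaryAbelian 2 Y) (hY1 : Y ≠ ⊥)
    (hN : normalizer (Y : Set X) ≠ ⊤) : OnlyEA 2 Y := by
  haveI := Fact.mk Nat.prime_two
  obtain ⟨k, hk⟩ := IsPGroup.iff_card.1 (isPGroup_of_EA hY)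
  have h2 : 2 ∣ Nat.card Y := by
    rw [hk]
    refine dvd_pow_self 2 fun h => hY1 ?_
    rwa [h, pow_zero, card_eq_one] at hk
  have hYN : Y ≤ normalizer (Y : Set X) := Subgroup.le_normalizer
  set N := normalizer (Y : Set X)
  have hNdvd : Nat.card N ∣ 2 * r := hX ▸ card_subgroup_dvd_card N
  have hN2 : Nat.card N = 2 := by
    obtain ⟨c, hc⟩ := h2.trans (card_dvd_of_le hYN)
    have hcr : c ∣ r := Nat.dvd_of_mul_dvd_mul_left two_pos (hc ▸ hNdvd)
    rcases (Nat.dvd_prime hr).1 hcr with rfl | rfl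
    · simpa using hc
    · exact absurd (eq_top_of_card_eq _ (by rw [hc, hX])) hN
  have hYeq : Y = N := eq_of_le_of_card_ge hYN (by
    rw [hN2]; exact Nat.le_of_dvd Nat.card_pos h2)
  intro V hVN _ hV hV1
  rw [hYeq]
  refine eq_of_le_of_card_ge hVN ?_
  have := V.one_lt_card_iff_ne_bot.2 hV1
  omega

end Cfsg.Agent.Lib.NormalEA55
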