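import Cfsg.Agent.Lib.FreeInertia.Rows
import Cfsg.Agent.S0945
import Mathlib

/-!
# A homocyclic defect group of rank two at the prime two has free inertial action of order one or three
-/

set_option autoImplicit false
set_option linter.unusedSectionVars false

namespace Cfsg.Agent.Lib.FreeInertia.Homocyclic

open Cfsg
open Cfsg.Agent.Lib
open Cfsg.Agent.Lib.BrauerPairs
open Cfsg.Agent.Lib.AbelianStar (InStab inStab_iff not_dvd_card_aut)

universe u

section pure

variable {A : Type u} [Group A] [Finite A] {m : ℕ} (H : Subgroup (MulAut A))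

/-- An odd group of automorphisms of `C_{2^m} × C_{2^m}` has order one or three and acts freely. -/
theorem card_and_free (hm : 1 ≤ m) (e : A ≃* Multiplicative (ZMod (2 ^ m) × ZMod (2 ^ m)))
    (hodd : ¬ 2 ∣ Nat.card H) :
    (Nat.card H = 1 ∨ Nat.card H = 3) ∧ ∀ α ∈ H, ∀ x : A, x ≠ 1 → α x = x → α = 1 := by
  have hA : ∀ a b : A, a * b = b * a := fun a b => e.injective (by rw [map_mul, map_mul, mul_comm])
  have hcard : Nat.card A = 2 ^ (2 * m) := by
    rw [Nat.card_congr e.toEquiv, Nat.card_congr Multiplicative.toAdd, Nat.card_prod, Nat.card_zmod,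
      ← pow_add, two_mul]
  have h2 : IsPGroup 2 A := IsPGroup.of_card hcard
  have hoddc : Odd (Nat.card H) := Nat.odd_iff.2 (by omega)
  have : Finite (MulAut A) := Finite.of_injective _ DFunLike.coe_injective
  have hinj : ∀ f ∈ H, S0945.onInv2 f = 1 → f = 1 := fun f hf h => by
    refine S0945.eq_one_of_fix hA h2 f ?_ h
    have := orderOf_dvd_natCard (⟨f, hf⟩ : H)
    rw [Subgroup.orderOf_mk] at this
    exact Odd.of_dvd_nat hoddc this
  have h6 : Nat.card H ∣ 6 := by
    have h := Subgroup.card_dvd_of_injective (S0945.onInv2.comp H.subtype) (by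
      rw [← MonoidHom.ker_eq_bot_iff, Subgroup.eq_bot_iff_forall]
      exact fun f hf => Subtype.ext (hinj f f.2 hf))
    rw [Nat.card_perm, S0945.card_inv2 hm e] at h
    exact h
  have hval : Nat.card H = 1 ∨ Nat.card H = 3 := by
    have h3 : Nat.card H ≤ 6 := Nat.le_of_dvd (by decide) h6
    obtain ⟨r, hr⟩ := hoddc
    have : r ≤ 2 := by omega
    interval_cases r <;> simp_all
  refine ⟨hval, fun α hα x hx hfix => by_contra fun hne => ?_⟩
  have h3 : α ^ 3 = 1 := by
    have h := pow_card_eq_one' (x := (⟨α, hα⟩ : H))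
    rcases hval with h1 | h1 <;> rw [h1] at h
    · rw [pow_one] at h
      exact absurd (congrArg Subtype.val h) hne
    · exact congrArg Subtype.val h
  obtain ⟨j, hj⟩ := IsPGroup.iff_orderOf.1 h2 x
  obtain ⟨i, rfl⟩ : ∃ i, j = i + 1 := by
    refine Nat.exists_eq_succ_of_ne_zero fun h0 => hx ?_
    rw [h0, pow_zero, orderOf_eq_one_iff] at hj
    exact hj
  have hi : (x ^ 2 ^ i) ^ 2 = 1 ∧ x ^ 2 ^ i ≠ 1 := by
    refine ⟨by rw [← pow_mul, ← pow_succ, ← hj, pow_orderOf_eq_one], fun h => ?_⟩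
    have := Nat.le_of_dvd (by positivity) (orderOf_dvd_of_pow_eq_one h)
    rw [hj, pow_succ] at this
    have : 0 < 2 ^ i := by positivity
    omega
  refine (S0945.perm_three (S0945.card_inv2 hm e) (S0945.onInv2 α) (by rw [← map_pow, h3, map_one])
    (fun h => hne (hinj α hα h)) ⟨_, hi⟩ ⟨_, hi⟩).1 (Subtype.ext ?_)
  rw [S0945.onInv2_apply]
  show α (x ^ 2 ^ i) = x ^ 2 ^ i
  rw [map_pow, hfix]

end pure

variable {G : Type u} [Group G] [Fintype G] {M : Ideal AlgInt} [Fact (Nat.Prime 2)] [M.IsPrime]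
  {B : Set (IrrCharacter G)} {b : BrauerPairIdx G}
  (hM : IsPModular 2 M) (hmax : IsMaximalBrauerPair 2 M B b.1 b.2) {m : ℕ}

include hM hmax in
theorem iner_facts (hm : 1 ≤ m) (e : b.1 ≃* Multiplicative (ZMod (2 ^ m) × ZMod (2 ^ m)))
    (hab : ∀ x ∈ b.1, ∀ y ∈ b.1, x * y = y * x) :
    (Nat.card (iner hmax.1.1.2) = 1 ∨ Nat.card (iner hmax.1.1.2) = 3) ∧ IsFree b := by
  obtain ⟨hcard, hfree⟩ := card_and_free (iner hmax.1.1.2) hm e (not_dvd_card_aut hM hmax hab)
  refine ⟨hcard, fun y hy x hx hx1 hyx => ?_⟩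
  have hyN := ((mem_pairStab_iff hmax.1.1.2).1 ((inStab_iff hmax.1.1.2).1 hy)).1
  set α := Fusion.conjAut b.1 y hyN
  have hα : α ∈ iner hmax.1.1.2 :=
    Fusion.mem_autInducedBy.2 ⟨y, (inStab_iff hmax.1.1.2).1 hy, fun z => rfl⟩
  have h1 : α = 1 := hfree α hα ⟨x, hx⟩ (fun h => hx1 (congrArg Subtype.val h)) (Subtype.ext hyx)
  refine Subgroup.mem_centralizer_iff.2 fun z hz => ?_
  have h := congrArg (fun f : MulAut b.1 => ((f ⟨z, hz⟩ : b.1) : G)) h1
  simp only [MulAut.one_apply] at h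
  rw [show (α ⟨z, hz⟩ : G) = y * z * y⁻¹ from rfl, mul_inv_eq_iff_eq_mul] at h
  exact h.symm

include hM hmax in
/-- The invariants, given the signs. -/
theorem invariants (hm : 1 ≤ m) (e : b.1 ≃* Multiplicative (ZMod (2 ^ m) × ZMod (2 ^ m)))
    (hab : ∀ x ∈ b.1, ∀ y ∈ b.1, x * y = y * x)
    (hS : HasSigns 2 M B b hmax.1.1.2) :
    (blockRank 2 B = 1 ∧ Nat.card B = 4 ^ m) ∨ (blockRank 2 B = 3 ∧ 3 * Nat.card B = 4 ^ m + 8) := by
  obtain ⟨he, hfree⟩ := iner_facts hM hmax hm e hab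
  have hcard : Nat.card b.1 = 4 ^ m := by
    rw [Nat.card_congr e.toEquiv, Nat.card_congr Multiplicative.toAdd, Nat.card_prod, Nat.card_zmod,
      ← mul_pow]
    norm_num
  have hP1 : ∃ w : b.1, w ≠ 1 := by
    have : Nontrivial b.1 := Finite.one_lt_card_iff_nontrivial.1 (by
      rw [hcard]; exact Nat.one_lt_pow (by omega) (by norm_num))
    exact exists_ne 1
  obtain ⟨-, h2, h3⟩ := counts hM hmax hab hfree hS hP1
  rcases he with he | he <;> rw [he, hcard] at h2 h3
  · left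
    have := h3 (by norm_num)
    have : 0 < 4 ^ m := by positivity
    rw [Nat.div_one] at *
    omega
  · right
    have := h3 le_rfl
    have h4 : 4 ^ m % 3 = 1 := by rw [Nat.pow_mod]; norm_num
    omega

end Cfsg.Agent.Lib.FreeInertia.Homocyclic
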