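import Mathlib

/-!
Itô: a product of two abelian subgroups is metabelian.
-/

set_option autoImplicit false

namespace Cfsg.Agent.Lib.ItoFactor

open scoped commutatorElement

variable {G : Type*} [Group G]

theorem isSolvable_of_mul_eq (A B : Subgroup G) [IsMulCommutative A] [IsMulCommutative B]
    (hAB : ∀ g : G, ∃ a ∈ A, ∃ b ∈ B, g = a * b) : Group.IsSolvable G := by
  have hBA : ∀ g : G, ∃ b ∈ B, ∃ a ∈ A, g = b * a := fun g => by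
    obtain ⟨a, ha, b, hb, e⟩ := hAB g⁻¹
    exact ⟨b⁻¹, inv_mem hb, a⁻¹, inv_mem ha, by rw [← mul_inv_rev, ← e, inv_inv]⟩
  -- conjugation formulas
  have hA : ∀ a ∈ A, ∀ x : G, ∀ b₂ ∈ B, ∀ a₂ ∈ A, x = b₂ * a₂ → ⁅a, x⁆ = ⁅a, b₂⁆ := by
    intro a ha x b₂ _ a₂ ha₂ e
    have : Commute a a₂ := setLike_mul_comm ha ha₂
    rw [e, commutatorElement_def, commutatorElement_def]
    calc a * (b₂ * a₂) * a⁻¹ * (b₂ * a₂)⁻¹ = a * b₂ * (a₂ * a⁻¹) * a₂⁻¹ * b₂⁻¹ := by group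
      _ = a * b₂ * (a⁻¹ * a₂) * a₂⁻¹ * b₂⁻¹ := by rw [this.symm.inv_right.eq]
      _ = _ := by group
  have hB : ∀ b ∈ B, ∀ x : G, ∀ a₃ ∈ A, ∀ b₃ ∈ B, x = a₃ * b₃ → ⁅x, b⁆ = ⁅a₃, b⁆ := by
    intro b hb x a₃ _ b₃ hb₃ e
    have : Commute b₃ b := setLike_mul_comm hb₃ hb
    rw [e, commutatorElement_def, commutatorElement_def]
    calc a₃ * b₃ * b * (a₃ * b₃)⁻¹ * b⁻¹ = a₃ * (b₃ * b) * b₃⁻¹ * a₃⁻¹ * b⁻¹ := by group
      _ = a₃ * (b * b₃) * b₃⁻¹ * a₃⁻¹ * b⁻¹ := by rw [this.eq]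
      _ = _ := by group
  have conjA : ∀ a₁ ∈ A, ∀ a ∈ A, ∀ b : G, a₁ * ⁅a, b⁆ * a₁⁻¹ = ⁅a, a₁ * b * a₁⁻¹⁆ := by
    intro a₁ h₁ a ha b
    have hc : Commute a₁ a := setLike_mul_comm h₁ ha
    have e : a₁ * a * a₁⁻¹ = a := by rw [hc.eq, mul_inv_cancel_right]
    rw [conjugate_commutatorElement, e]
  have conjB : ∀ b₁ ∈ B, ∀ b ∈ B, ∀ a : G, b₁ * ⁅a, b⁆ * b₁⁻¹ = ⁅b₁ * a * b₁⁻¹, b⁆ := by
    intro b₁ h₁ b hb a
    have hc : Commute b₁ b := setLike_mul_comm h₁ hb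
    have e : b₁ * b * b₁⁻¹ = b := by rw [hc.eq, mul_inv_cancel_right]
    rw [conjugate_commutatorElement, e]
  let s : Set G := {g | ∃ a ∈ A, ∃ b ∈ B, ⁅a, b⁆ = g}
  let X := Subgroup.closure s
  have hcomm : ∀ x ∈ s, ∀ y ∈ s, x * y = y * x := by
    rintro _ ⟨a, ha, b, hb, rfl⟩ _ ⟨a₁, h₁, b₁, h₁', rfl⟩
    -- use inverses so that the conjugating commutator is `⁅a₁, b₁⁆`
    obtain ⟨b₂, hb₂, a₂, ha₂, e₂⟩ := hBA (a₁⁻¹ * b * a₁⁻¹⁻¹)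
    obtain ⟨a₃, ha₃, b₃, hb₃, e₃⟩ := hAB (b₁⁻¹ * a * b₁⁻¹⁻¹)
    have k1 : a₁⁻¹ * (b₁⁻¹ * ⁅a, b⁆ * b₁⁻¹⁻¹) * a₁⁻¹⁻¹ = ⁅a₃, b₂⁆ := by
      rw [conjB _ (inv_mem h₁') b hb a, hB b hb _ a₃ ha₃ b₃ hb₃ e₃,
        conjA _ (inv_mem h₁) a₃ ha₃ b, hA a₃ ha₃ _ b₂ hb₂ a₂ ha₂ e₂]
    have k2 : b₁⁻¹ * (a₁⁻¹ * ⁅a, b⁆ * a₁⁻¹⁻¹) * b₁⁻¹⁻¹ = ⁅a₃, b₂⁆ := by
      rw [conjA _ (inv_mem h₁) a ha b, hA a ha _ b₂ hb₂ a₂ ha₂ e₂,
        conjB _ (inv_mem h₁') b₂ hb₂ a, hB b₂ hb₂ _ a₃ ha₃ b₃ hb₃ e₃]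
    rw [← k2] at k1
    rw [inv_inv, inv_inv] at k1
    have k3 : ⁅a, b⁆ = ⁅a₁, b₁⁆⁻¹ * ⁅a, b⁆ * ⁅a₁, b₁⁆ := by
      calc ⁅a, b⁆ = (b₁ * a₁) * (a₁⁻¹ * (b₁⁻¹ * ⁅a, b⁆ * b₁) * a₁) * (b₁ * a₁)⁻¹ := by group
        _ = (b₁ * a₁) * (b₁⁻¹ * (a₁⁻¹ * ⁅a, b⁆ * a₁) * b₁) * (b₁ * a₁)⁻¹ := by rw [k1]
        _ = ⁅b₁, a₁⁆ * ⁅a, b⁆ * ⁅b₁, a₁⁆⁻¹ := by simp only [commutatorElement_def]; group
        _ = _ := by rw [← commutatorElement_inv a₁ b₁, inv_inv]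
    calc ⁅a, b⁆ * ⁅a₁, b₁⁆ = ⁅a₁, b₁⁆ * (⁅a₁, b₁⁆⁻¹ * ⁅a, b⁆ * ⁅a₁, b₁⁆) := by group
      _ = _ := by rw [← k3]
  have hXc : IsMulCommutative X := Subgroup.isMulCommutative_closure hcomm
  have hXn : X.Normal := by
    refine Subgroup.normalizer_eq_top_iff.mp (top_le_iff.mp fun g _ => ?_)
    obtain ⟨a₁, h₁, b₁, h₁', rfl⟩ := hAB g
    have hs : ∀ x ∈ A ⊔ B, x ∈ (Subgroup.normalizer (X : Set G)) := by
      refine fun x hx => ?_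
      suffices A ⊔ B ≤ Subgroup.normalizer (X : Set G) from this hx
      have aux : ∀ c : G, (∀ y ∈ s, c * y * c⁻¹ ∈ X) → (∀ y ∈ s, c⁻¹ * y * c⁻¹⁻¹ ∈ X) →
          c ∈ Subgroup.normalizer (X : Set G) := by
        intro c h1 h2
        rw [Subgroup.mem_normalizer_iff]
        have gen : ∀ d : G, (∀ y ∈ s, d * y * d⁻¹ ∈ X) → ∀ y ∈ X, d * y * d⁻¹ ∈ X := by
          intro d hd y hy
          have : X ≤ X.comap (MulAut.conj d).toMonoidHom := by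
            rw [Subgroup.closure_le]
            exact hd
          exact this hy
        intro y
        refine ⟨gen c h1 y, fun hy => ?_⟩
        have := gen c⁻¹ h2 _ hy
        simpa [mul_assoc] using this
      refine sup_le (fun c hc => ?_) (fun c hc => ?_)
      · have h' : ∀ c ∈ A, ∀ y ∈ s, c * y * c⁻¹ ∈ X := by
          rintro c hc _ ⟨a, ha, b, hb, rfl⟩
          obtain ⟨b₂, hb₂, a₂, ha₂, e₂⟩ := hBA (c * b * c⁻¹)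
          rw [conjA c hc a ha b, hA a ha _ b₂ hb₂ a₂ ha₂ e₂]
          exact Subgroup.subset_closure ⟨a, ha, b₂, hb₂, rfl⟩
        exact aux c (h' c hc) (h' c⁻¹ (inv_mem hc))
      · have h' : ∀ c ∈ B, ∀ y ∈ s, c * y * c⁻¹ ∈ X := by
          rintro c hc _ ⟨a, ha, b, hb, rfl⟩
          obtain ⟨a₃, ha₃, b₃, hb₃, e₃⟩ := hAB (c * a * c⁻¹)
          rw [conjB c hc b hb a, hB b hb _ a₃ ha₃ b₃ hb₃ e₃]
          exact Subgroup.subset_closure ⟨a₃, ha₃, b, hb, rfl⟩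
        exact aux c (h' c hc) (h' c⁻¹ (inv_mem hc))
    exact hs _ (mul_mem (Subgroup.mem_sup_left h₁) (Subgroup.mem_sup_right h₁'))
  have hquot : Group.IsSolvable (G ⧸ X) := by
    refine Group.isSolvable_of_comm fun u v => ?_
    obtain ⟨g, rfl⟩ := QuotientGroup.mk'_surjective X u
    obtain ⟨h, rfl⟩ := QuotientGroup.mk'_surjective X v
    obtain ⟨a, ha, b, hb, rfl⟩ := hAB g
    obtain ⟨a', ha', b', hb', rfl⟩ := hAB h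
    have cc : ∀ a ∈ A, ∀ b ∈ B, Commute (QuotientGroup.mk' X a) (QuotientGroup.mk' X b) := by
      intro a ha b hb
      rw [← commutatorElement_eq_one_iff_commute, ← map_commutatorElement,
        ← MonoidHom.mem_ker, QuotientGroup.ker_mk']
      exact Subgroup.subset_closure ⟨a, ha, b, hb, rfl⟩
    have caa : Commute (QuotientGroup.mk' X a) (QuotientGroup.mk' X a') :=
      Commute.map (show Commute a a' from setLike_mul_comm ha ha') _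
    have cbb : Commute (QuotientGroup.mk' X b) (QuotientGroup.mk' X b') :=
      Commute.map (show Commute b b' from setLike_mul_comm hb hb') _
    rw [map_mul, map_mul]
    exact ((caa.mul_right (cc a ha b' hb')).mul_left
      ((cc a' ha' b hb).symm.mul_right cbb)).eq
  have : Group.IsSolvable X := Group.isSolvable_of_comm fun a b => mul_comm' a b
  exact (Group.isSolvable_iff_subgroup_quotient X).mpr ⟨this, hquot⟩

end Cfsg.Agent.Lib.ItoFactor
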