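import Cfsg.Agent.Lib.Fusion.SylowCompute

/-!
A fusion certificate shows that an element of odd order normalizing the Sylow 2-subgroup
centralizes it; if every point stabilizer in the Sylow subgroup fixes at most two points,
such an element is trivial, so the Sylow subgroup is self-normalizing.
-/

set_option autoImplicit false

namespace Cfsg.Agent.Lib.M24Sylow55

open Cfsg.Agent.Lib.Compute Cfsg.Agent.Lib.Fusion

variable {α : Type*} [Fintype α] [DecidableEq α] {n w : ℕ}

theorem centralizes_of_fusCheck (e : α ≃ Fin n) (hw : n ≤ 2 ^ w) {GS : List (ℕ × ℕ)} {L : List Lvl}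
    {f : FusCert} (hGS : GensOK (permCoding w e hw) GS)
    (hL : chainCheck (permOps w n) GS L = true) (hf : fusCheck w n L f = true)
    (H : Subgroup (Equiv.Perm α)) (hH : H = genGroup (permCoding w e hw) GS) :
    ∃ S₀ : Sylow 2 H, (∀ x : H, x ∈ (S₀ : Subgroup H) ↔
        (x : Equiv.Perm α) ∈ genGroup (permCoding w e hw) f.PS) ∧
      ∀ g ∈ Subgroup.normalizer ((S₀ : Subgroup H) : Set H), (orderOf g).Coprime 2 →
        g ∈ Subgroup.centralizer ((S₀ : Subgroup H) : Set H) := by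
  haveI : Fact (Nat.Prime 2) := ⟨Nat.prime_two⟩
  set C := permCoding w e hw
  simp only [fusCheck, sylowCheck, fusionCheck, cosetCheck, Bool.and_eq_true] at hf
  obtain ⟨⟨⟨⟨⟨⟨⟨⟨⟨⟨hPS, hLP⟩, hsz⟩, ha⟩, hmod⟩, hodd⟩, hzP⟩, hzpc⟩, hcen⟩,
    ⟨⟨⟨hst, hTP⟩, hLT⟩, hszT⟩⟩,
    ⟨⟨⟨⟨⟨⟨⟨⟨⟨⟨⟨⟨⟨hlenW, hW⟩, hWP⟩, hinc⟩, hone⟩, hclosed⟩, hsq⟩, hreps⟩, hlenC⟩, hcos⟩, hrep1⟩, hgen⟩,
      hsig⟩, hclass⟩⟩ := hf
  obtain ⟨hPSok, hPH'⟩ := gensOK_of_pairCheck e hw hGS hL hPS
  set P := genGroup C f.PS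
  have hPH : P ≤ H := hH ▸ hPH'
  have hcardP : Nat.card P = 2 ^ f.a := by
    rw [card_genGroup C hPSok hLP, Nat.eq_of_beq_eq_true hsz]
  have hcardH : Nat.card H = chainSize L := by rw [hH, card_genGroup C hGS hL]
  have hPmem : ∀ c, sift (permOps w n) f.LP c = true → ∀ g, C.enc g = c → g ∈ P :=
    fun c hc g hg => good_of_sift C hPSok hLP (hg.symm ▸ hc)
  -- the Sylow subgroup
  have hcardS : Nat.card (P.subgroupOf H) = 2 ^ (Nat.card H).factorization 2 := by
    rw [Nat.card_congr (Subgroup.subgroupOfEquivOfLe hPH).toEquiv, hcardP, hcardH]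
    have h1 := Nat.div_add_mod (chainSize L) (2 ^ f.a)
    rw [Nat.eq_of_beq_eq_true hmod, add_zero] at h1
    have hm : (chainSize L / 2 ^ f.a) % 2 = 1 := Nat.eq_of_beq_eq_true hodd
    rw [← h1, Nat.factorization_mul (pow_ne_zero _ two_ne_zero) (by omega),
      Nat.Prime.factorization_pow Nat.prime_two]
    simp [Nat.factorization_eq_zero_of_not_dvd (show ¬ 2 ∣ chainSize L / 2 ^ f.a by omega)]
  let S₀ : Sylow 2 H := Sylow.ofCard (P.subgroupOf H) hcardS
  have hS₀ : ∀ x : H, x ∈ (S₀ : Subgroup H) ↔ (x : Equiv.Perm α) ∈ P := fun x => Iff.rfl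
  refine ⟨S₀, hS₀, ?_⟩
  intro g hg hgo
  set σ : Equiv.Perm α → Equiv.Perm α := fun x => (g : Equiv.Perm α) * x * (g : Equiv.Perm α)⁻¹
  have hσP : ∀ {x}, x ∈ P ↔ σ x ∈ P := by
    intro x
    constructor
    · intro hx
      exact (hS₀ _).1 ((Subgroup.mem_normalizer_iff.1 hg ⟨x, hPH hx⟩).1 hx)
    · intro hx
      have hxH : x ∈ H := by
        have := mul_mem (mul_mem (inv_mem g.2) (hPH hx)) g.2
        simpa [σ, mul_assoc] using this
      exact (hS₀ ⟨x, hxH⟩).1 ((Subgroup.mem_normalizer_iff.1 hg ⟨x, hxH⟩).2 hx)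
  have hW' := natsEq_eq hW
  -- decoding
  let dec : ℕ → Equiv.Perm α := Function.invFun C.enc
  have hdec : ∀ x, dec (C.enc x) = x := Function.leftInverse_invFun C.inj
  set Φ := Subgroup.closure {y : Equiv.Perm α | ∃ x ∈ P, x * x = y}
  have helem : ∀ c ∈ elems (permOps w n) f.LP, ∃ x ∈ P, C.enc x = c :=
    fun c hc => exists_of_mem_elems C hPSok hLP hc
  have hΦP : Φ ≤ P := (Subgroup.closure_le _).2 (by rintro _ ⟨x, hx, rfl⟩; exact mul_mem hx hx)
  have hphimem : ∀ c ∈ f.Phi, ∃ x ∈ Φ, C.enc x = c := by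
    intro c hc
    rw [← hW'] at hc
    obtain ⟨ab, hab, rfl⟩ := List.mem_map.1 hc
    have h2 := List.all_eq_true.1 hWP ab hab
    simp only [Bool.and_eq_true] at h2
    obtain ⟨a, ha', hae⟩ := exists_of_pairCheck e hw hPSok hLP h2.1
    obtain ⟨b, hb', hbe⟩ := exists_of_pairCheck e hw hPSok hLP h2.2
    refine ⟨a * a * (b * b), mul_mem (Subgroup.subset_closure ⟨a, ha', rfl⟩)
      (Subgroup.subset_closure ⟨b, hb', rfl⟩), ?_⟩
    show C.enc _ = (permOps w n).mul ((permOps w n).mul _ _) ((permOps w n).mul _ _)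
    rw [← hae, ← hbe, C.mul_enc, C.mul_enc, C.mul_enc]
  have hΦcode : ∀ x ∈ Φ, C.enc x ∈ f.Phi := by
    intro x hx
    rw [← Subgroup.mem_toSubmonoid, Subgroup.closure_toSubmonoid_of_finite] at hx
    induction hx using Submonoid.closure_induction with
    | mem y hy =>
      obtain ⟨x, hxP, rfl⟩ := hy
      have h := List.all_eq_true.1 hsq _ (enc_mem_elems C hPSok hLP hxP)
      rw [forceNat_eq, forceNat_eq, memCode_iff] at h
      rw [← C.mul_enc]
      exact h
    | one =>
      rw [C.one_enc]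
      exact memCode_iff.1 hone
    | mul x y _ _ hx hy =>
      have h := List.all_eq_true.1 (List.all_eq_true.1 hclosed _ hx) _ hy
      rw [forceNat_eq, memCode_iff] at h
      rw [← C.mul_enc]
      exact h
  set phis := f.Phi.map dec with hphis
  have hphisenc : phis.map C.enc = f.Phi := by
    rw [hphis, List.map_map]
    conv_rhs => rw [← List.map_id f.Phi]
    refine List.map_congr_left fun c hc => ?_
    obtain ⟨x, -, rfl⟩ := hphimem c hc
    simp [hdec]
  have hphis_mem : ∀ x, x ∈ phis ↔ x ∈ Φ := by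
    intro x
    constructor
    · intro hx
      obtain ⟨c, hc, rfl⟩ := List.mem_map.1 hx
      obtain ⟨y, hy, rfl⟩ := hphimem c hc
      rwa [hdec]
    · intro hx
      exact List.mem_map.2 ⟨_, hΦcode x hx, hdec x⟩
  have hphis_nodup : phis.Nodup := by
    refine List.Nodup.of_map C.enc ?_
    rw [hphisenc]
    exact nodup_of_increasing hinc
  have hσΦ : ∀ {x}, x ∈ Φ ↔ σ x ∈ Φ := by
    intro x
    have key : ∀ k : Equiv.Perm α, (∀ y ∈ P, k * y * k⁻¹ ∈ P) → ∀ y ∈ Φ, k * y * k⁻¹ ∈ Φ := by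
      intro k hk y hy
      induction hy using Subgroup.closure_induction with
      | mem y hy =>
        obtain ⟨u, hu, rfl⟩ := hy
        exact Subgroup.subset_closure ⟨k * u * k⁻¹, hk u hu, by group⟩
      | one => simp
      | mul a b _ _ ha hb => rw [← conj_mul]; exact mul_mem ha hb
      | inv a _ ha => rw [← conj_inv]; exact inv_mem ha
    constructor
    · exact key _ (fun y hy => hσP.1 hy) x
    · intro h
      have := key (g : Equiv.Perm α)⁻¹ (fun y hy => hσP.2 (by simpa [σ, mul_assoc] using hy)) _ h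
      simpa [σ, mul_assoc] using this
  -- representatives
  have hrsP : ∀ c ∈ f.reps, C.enc (dec c.1) = c.1 ∧ dec c.1 ∈ P := by
    intro c hc
    obtain ⟨x, hx, hxe⟩ := exists_of_pairCheck e hw hPSok hLP (List.all_eq_true.1 hreps c hc)
    rw [← hxe, hdec]
    exact ⟨rfl, hx⟩
  let R : Equiv.Perm α → Equiv.Perm α → Prop := fun x y => x⁻¹ * y ∈ Φ
  have Rsymm : ∀ {x y}, R x y → R y x := fun {x y} h => by
    show y⁻¹ * x ∈ Φ
    simpa using inv_mem h
  have Rtrans : ∀ {x y z}, R x y → R y z → R x z := fun {x y z} h h' => by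
    show x⁻¹ * z ∈ Φ
    simpa [mul_assoc] using mul_mem h h'
  have Rσ : ∀ {x y}, R x y ↔ R (σ x) (σ y) := fun {x y} => by
    show x⁻¹ * y ∈ Φ ↔ _
    rw [hσΦ]
    simp [R, σ, mul_assoc]
  have hlenC' := Nat.eq_of_beq_eq_true hlenC
  have hcos' : ∀ i (hi : i < f.reps.length),
      f.cosets[i]'(hlenC'.symm ▸ hi) = (phis.map (dec f.reps[i].1 * ·)).map C.enc := by
    intro i hi
    have hmem : (f.reps[i], f.cosets[i]'(hlenC'.symm ▸ hi)) ∈ f.reps.zip f.cosets := by
      rw [List.mem_iff_getElem]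
      exact ⟨i, by simp [hlenC', hi], by simp⟩
    have hcm := natsEq_eq (List.all_eq_true.1 hcos _ hmem)
    simp only at hcm
    rw [← hcm, hphis, List.map_map, List.map_map]
    refine List.map_congr_left fun c hc => ?_
    obtain ⟨x, -, rfl⟩ := hphimem c hc
    show (permOps w n).mul f.reps[i].1 (C.enc x) = C.enc (dec f.reps[i].1 * dec (C.enc x))
    rw [hdec, ← C.mul_enc, (hrsP _ (List.getElem_mem hi)).1]
  have hcover : ∀ x ∈ P, ∃ c ∈ f.reps, R (dec c.1) x := by
    intro x hx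
    change x ∈ Subgroup.closure _ at hx
    rw [← Subgroup.mem_toSubmonoid, Subgroup.closure_toSubmonoid_of_finite] at hx
    induction hx using Submonoid.closure_induction_left with
    | one =>
      obtain ⟨c, hc, hc'⟩ := List.any_eq_true.1 hrep1
      refine ⟨c, hc, ?_⟩
      show (dec c.1)⁻¹ * 1 ∈ Φ
      obtain ⟨y, hy, hye⟩ := hphimem c.1 (memCode_iff.1 hc')
      rw [← hye, hdec, mul_one]
      exact inv_mem hy
    | mul_left s hs y _ ih =>
      obtain ⟨p, hp, hsp⟩ := hs
      obtain ⟨c, hc, hcy⟩ := ih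
      have h := List.all_eq_true.1 (List.all_eq_true.1 hgen p hp) c hc
      rw [forceNat_eq, List.any_eq_true] at h
      obtain ⟨l, hl, hl'⟩ := h
      obtain ⟨i, hi, rfl⟩ := List.getElem_of_mem hl
      rw [memCode_iff, hcos' i (hlenC' ▸ hi)] at hl'
      simp only [List.map_map, List.mem_map, Function.comp_apply] at hl'
      obtain ⟨u, hu, hu'⟩ := hl'
      have hsc : s * dec c.1 = dec f.reps[i].1 * u := by
        apply C.inj
        rw [hu', ← C.mul_enc, hsp, (hrsP c hc).1]
        rfl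
      refine ⟨_, List.getElem_mem (hlenC' ▸ hi), ?_⟩
      show (dec f.reps[i].1)⁻¹ * (s * y) ∈ Φ
      rw [show (dec f.reps[i].1)⁻¹ * (s * y) = (dec f.reps[i].1)⁻¹ * (s * dec c.1) * ((dec c.1)⁻¹ * y) by group,
        hsc, inv_mul_cancel_left]
      exact mul_mem ((hphis_mem u).1 hu) hcy
  -- the invariant
  let inv' : Equiv.Perm α → ℕ := fun x => sigPerm (phis.map (x * ·)) phis
  have hRinv : ∀ {x y}, R x y → inv' x = inv' y := by
    intro x y h
    refine sigPerm_perm ?_ (List.Perm.refl _)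
    refine (List.perm_ext_iff_of_nodup (hphis_nodup.map (mul_right_injective x))
      (hphis_nodup.map (mul_right_injective y))).2 fun u => ?_
    simp only [List.mem_map, hphis_mem]
    constructor
    · rintro ⟨v, hv, rfl⟩
      refine ⟨y⁻¹ * (x * v), ?_, mul_inv_cancel_left _ _⟩
      rw [show y⁻¹ * (x * v) = (x⁻¹ * y)⁻¹ * v by group]
      exact mul_mem (inv_mem h) hv
    · rintro ⟨v, hv, rfl⟩
      refine ⟨x⁻¹ * (y * v), ?_, mul_inv_cancel_left _ _⟩
      rw [← mul_assoc]
      exact mul_mem h hv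
  have hσinv : ∀ x, inv' (σ x) = inv' x := by
    intro x
    show sigPerm _ _ = sigPerm _ _
    rw [← sigPerm_conj (g : Equiv.Perm α) (phis.map (x * ·)) phis]
    have hperm : phis.Perm (phis.map σ) := by
      refine (List.perm_ext_iff_of_nodup hphis_nodup (hphis_nodup.map ?_)).2 fun u => ?_
      · exact fun a b h => mul_left_cancel (mul_right_cancel h)
      · simp only [List.mem_map, hphis_mem]
        constructor
        · intro hu
          refine ⟨(g : Equiv.Perm α)⁻¹ * u * g, hσΦ.2 ?_, ?_⟩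
          · simpa [σ, mul_assoc] using hu
          · simp [σ, mul_assoc]
        · rintro ⟨v, hv, rfl⟩
          exact hσΦ.1 hv
    refine sigPerm_perm ?_ hperm
    refine (hperm.map (σ x * ·)).trans ?_
    rw [List.map_map, List.map_map]
    rw [hphis, List.map_map, List.map_map]
    refine List.Perm.of_eq (List.map_congr_left fun u _ => ?_)
    simp [σ, Function.comp, mul_assoc]
  have hsigs : ∀ i (hi : i < f.reps.length), ∃ hi' : i < f.sigs.length,
      f.sigs[i] = inv' (dec f.reps[i].1) := by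
    intro i hi
    have hs := natsEq_eq hsig
    have hlen : f.sigs.length = f.reps.length := by rw [← hs, List.length_map, hlenC']
    refine ⟨hlen ▸ hi, ?_⟩
    simp only [← hs, List.getElem_map]
    rw [hcos' i hi]
    conv_lhs => arg 4; rw [← hphisenc]
    exact sigCode_eq hw e _ _
  have hthree : ∀ x ∈ P, R (σ x) x ∨ R (σ (σ x)) (σ x) ∨ R (σ (σ x)) x := by
    intro x hx
    obtain ⟨c₀, hc₀, r₀⟩ := hcover x hx
    obtain ⟨c₁, hc₁, r₁⟩ := hcover _ (hσP.1 hx)
    obtain ⟨c₂, hc₂, r₂⟩ := hcover _ (hσP.1 (hσP.1 hx))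
    obtain ⟨i₀, hi₀, rfl⟩ := List.getElem_of_mem hc₀
    obtain ⟨i₁, hi₁, rfl⟩ := List.getElem_of_mem hc₁
    obtain ⟨i₂, hi₂, rfl⟩ := List.getElem_of_mem hc₂
    obtain ⟨k₀, s₀⟩ := hsigs i₀ hi₀
    obtain ⟨k₁, s₁⟩ := hsigs i₁ hi₁
    obtain ⟨k₂, s₂⟩ := hsigs i₂ hi₂
    by_cases h01 : i₀ = i₁
    · subst h01
      exact Or.inl (Rtrans (Rsymm r₁) r₀)
    by_cases h12 : i₁ = i₂
    · subst h12
      exact Or.inr (Or.inl (Rtrans (Rsymm r₂) r₁))
    by_cases h02 : i₀ = i₂
    · subst h02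
      exact Or.inr (Or.inr (Rtrans (Rsymm r₂) r₀))
    exfalso
    have e0 : f.sigs[i₁] = f.sigs[i₀] := by
      rw [s₀, s₁, hRinv r₀, hRinv r₁, hσinv]
    have e1 : f.sigs[i₂] = f.sigs[i₀] := by
      rw [s₀, s₂, hRinv r₀, hRinv r₂, hσinv, hσinv]
    have hle : f.sigs.countP (fun t => Nat.beq f.sigs[i₀] t) ≤ 2 := by
      simpa [Nat.ble_eq] using List.all_eq_true.1 hclass _ (List.getElem_mem k₀)
    have h3 : 3 ≤ f.sigs.countP (fun t => Nat.beq f.sigs[i₀] t) :=
      three_le_countP _ _ k₀ k₁ k₂ h01 h12 h02 (by simp) (by simp [e0]) (by simp [e1])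
    omega
  obtain ⟨k, hk⟩ : ∃ k, orderOf g = 2 * k + 1 :=
    ⟨orderOf g / 2, by have := Nat.coprime_two_right.1 hgo; rw [Nat.odd_iff] at this; omega⟩
  have hpow : ∀ (m : ℕ) x, σ^[m] x = (g : Equiv.Perm α) ^ m * x * ((g : Equiv.Perm α) ^ m)⁻¹ := by
    intro m
    induction m with
    | zero => simp
    | succ m ih => intro x; rw [Function.iterate_succ_apply', ih, pow_succ']; simp [σ, mul_assoc]
  have hfix : ∀ x ∈ P, R (σ x) x := by
    intro x hx
    refine rel_of_pairs R Rsymm Rtrans σ (fun {a b} h => Rσ.1 h) (fun {a b} h => Rσ.2 h) (k := k)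
      ?_ ?_ (hthree x hx)
    · show x⁻¹ * x ∈ Φ
      simp
    · rw [hpow, ← hk, ← Subgroup.orderOf_coe g, pow_orderOf_eq_one]
      simp
  have hPnorm : ∀ u ∈ P, ∀ y ∈ Φ, u * y * u⁻¹ ∈ Φ := by
    intro u hu y hy
    induction hy using Subgroup.closure_induction with
    | mem y hy =>
      obtain ⟨v, hv, rfl⟩ := hy
      exact Subgroup.subset_closure ⟨u * v * u⁻¹, mul_mem (mul_mem hu hv) (inv_mem hu), by group⟩
    | one => simp
    | mul a b _ _ ha hb => rw [← conj_mul]; exact mul_mem ha hb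
    | inv a _ ha => rw [← conj_inv]; exact inv_mem ha
  have hpowfix : ∀ (m : ℕ), ∀ x ∈ P, R (σ^[m] x) x ∧ σ^[m] x ∈ P := by
    intro m
    induction m with
    | zero =>
      intro x hx
      exact ⟨show x⁻¹ * x ∈ Φ by simp, hx⟩
    | succ m ih =>
      intro x hx
      obtain ⟨h1, h2⟩ := ih x hx
      rw [Function.iterate_succ_apply']
      exact ⟨Rtrans (hfix _ h2) h1, hσP.1 h2⟩
  -- coprime action
  have hP2 : IsPGroup 2 P := IsPGroup.of_card hcardP
  set A := Subgroup.zpowers (g : Equiv.Perm α)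
  have hAcard : Nat.card A = orderOf g := by rw [Nat.card_zpowers, Subgroup.orderOf_coe]
  have hAP : A ≤ Subgroup.normalizer (P : Set (Equiv.Perm α)) :=
    Subgroup.zpowers_le.mpr (Subgroup.mem_normalizer_iff.2 fun x => hσP)
  have hcen' : A ≤ Subgroup.centralizer (P : Set (Equiv.Perm α)) := by
    refine Coprime.le_centralizer_of_frattini hAP ?_ ?_
    · rw [hAcard]
      obtain ⟨j, hj⟩ := IsPGroup.iff_card.mp (hP2.to_subgroup (frattini P))
      rw [hj]
      exact hgo.pow_right j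
    · intro a ha x hx
      obtain ⟨m, rfl⟩ := (mem_powers_iff_mem_zpowers.2 ha)
      show _ ∈ (frattini P).map P.subtype
      have hΦle : Φ ≤ (frattini P).map P.subtype := by
        refine (Subgroup.closure_le _).2 ?_
        rintro _ ⟨v, hv, rfl⟩
        refine ⟨(⟨v, hv⟩ : P) ^ 2, PFrattini.pow_mem_frattini hP2 _, ?_⟩
        rw [sq]
        rfl
      refine hΦle ?_
      obtain ⟨h1, h2⟩ := hpowfix m x hx
      have h3 := hPnorm _ h2 _ h1
      have h4 := inv_mem h3
      rw [hpow] at h4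
      simpa [R, mul_assoc] using h4
  intro y hy
  exact Subtype.ext (hcen' (Subgroup.mem_zpowers _) (y : Equiv.Perm α) ((hS₀ y).1 hy))

/-- Every stabilizer of a point in the list fixes at most two points. -/
noncomputable def fixPairs (w n : ℕ) (l : List ℕ) : Bool :=
  (List.range n).all fun a => Nat.ble
    ((List.range n).countP fun b =>
      (l.filter fun c => Nat.beq (getP w c a) a).all fun c => Nat.beq (getP w c b) b) 2

theorem normalizer_eq_of_fusCheck (e : α ≃ Fin n) (hw : n ≤ 2 ^ w) {GS : List (ℕ × ℕ)} {L : List Lvl}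
    {f : FusCert} (hGS : GensOK (permCoding w e hw) GS)
    (hL : chainCheck (permOps w n) GS L = true) (hf : fusCheck w n L f = true)
    (hfp : fixPairs w n (elems (permOps w n) f.LP) = true)
    (H : Subgroup (Equiv.Perm α)) (hH : H = genGroup (permCoding w e hw) GS) (S : Sylow 2 H) :
    Subgroup.normalizer ((S : Subgroup H) : Set H) = (S : Subgroup H) := by
  haveI : Fact (Nat.Prime 2) := ⟨Nat.prime_two⟩
  classical
  obtain ⟨S₀, hS₀, hcent⟩ := centralizes_of_fusCheck e hw hGS hL hf H hH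
  set C := permCoding w e hw
  have hf' := hf
  simp only [fusCheck, sylowCheck, Bool.and_eq_true] at hf'
  obtain ⟨⟨⟨⟨⟨⟨⟨⟨⟨⟨hPS, hLP⟩, -⟩, -⟩, -⟩, -⟩, -⟩, -⟩, -⟩, -⟩, -⟩ := hf'
  obtain ⟨hPSok, hPH'⟩ := gensOK_of_pairCheck e hw hGS hL hPS
  set P := genGroup C f.PS
  have hPH : P ≤ H := hH ▸ hPH'
  have hodd : ∀ g ∈ Subgroup.normalizer ((S₀ : Subgroup H) : Set H), (orderOf g).Coprime 2 →
      g = 1 := by
    intro g hg hgo
    have hc := hcent g hg hgo
    have hcomm : ∀ x ∈ P, (g : Equiv.Perm α) * x = x * (g : Equiv.Perm α) := by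
      intro x hx
      have h := Subgroup.mem_centralizer_iff.1 hc ⟨x, hPH hx⟩ ((hS₀ _).2 hx)
      exact (congrArg Subtype.val h).symm
    refine Subtype.ext (Equiv.ext fun a => ?_)
    show (g : Equiv.Perm α) a = a
    set T := Finset.univ.filter fun b : α => ∀ x ∈ P, x a = a → x b = b
    have hT : T.card ≤ 2 := by
      have h := List.all_eq_true.1 hfp (e a) (List.mem_range.2 (e a).isLt)
      rw [Nat.ble_eq, countP_range e] at h
      refine le_trans (Finset.card_le_card ?_) h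
      intro b hb
      simp only [T, Finset.mem_filter, Finset.mem_univ, true_and] at hb ⊢
      rw [List.all_eq_true]
      intro c hc
      rw [List.mem_filter] at hc
      obtain ⟨x, hx, hxc⟩ := exists_of_mem_elems C hPSok hLP hc.1
      have h1 := hc.2
      rw [← hxc] at h1 ⊢
      exact (getP_enc_eq_iff hw e x b b).2 (hb x hx ((getP_enc_eq_iff hw e x a a).1 h1))
    have hmem : ∀ k : ℕ, ((g : Equiv.Perm α) ^ k) a ∈ T := by
      intro k
      simp only [T, Finset.mem_filter, Finset.mem_univ, true_and]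
      intro x hx hxa
      have hk : Commute ((g : Equiv.Perm α) ^ k) x := (show Commute _ _ from hcomm x hx).pow_left k
      have h := congrArg (fun q : Equiv.Perm α => q a) hk.eq
      simp only [Equiv.Perm.mul_apply, hxa] at h
      exact h.symm
    by_contra hga
    have hgg : (g : Equiv.Perm α) ((g : Equiv.Perm α) a) = a := by
      by_contra h2
      have hsub : ({a, (g : Equiv.Perm α) a, (g : Equiv.Perm α) ((g : Equiv.Perm α) a)} : Finset α) ⊆ T := by
        intro b hb
        simp only [Finset.mem_insert, Finset.mem_singleton] at hb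
        rcases hb with rfl | rfl | rfl
        · simpa using hmem 0
        · simpa using hmem 1
        · simpa [pow_two] using hmem 2
      have h3 := le_trans (Finset.card_le_card hsub) hT
      rw [Finset.card_eq_three.2 ⟨a, _, _, Ne.symm hga, Ne.symm h2,
        fun h => hga ((g : Equiv.Perm α).injective h).symm, rfl⟩] at h3
      omega
    have heven : ∀ j : ℕ, ((g : Equiv.Perm α) ^ (2 * j)) a = a := by
      intro j
      induction j with
      | zero => simp
      | succ j ih =>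
        rw [show 2 * (j + 1) = 2 + 2 * j by ring, pow_add, Equiv.Perm.mul_apply, ih, pow_two,
          Equiv.Perm.mul_apply, hgg]
    obtain ⟨k, hk⟩ := Nat.coprime_two_right.1 hgo
    have h := pow_orderOf_eq_one (g : Equiv.Perm α)
    rw [Subgroup.orderOf_coe, hk] at h
    have h' := congrArg (fun q : Equiv.Perm α => q a) h
    rw [pow_succ'] at h'
    simp only [Equiv.Perm.mul_apply, heven, Equiv.Perm.one_apply] at h'
    exact hga h'
  have hN : IsPGroup 2 (Subgroup.normalizer ((S₀ : Subgroup H) : Set H)) := by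
    intro g
    obtain ⟨j, m, hm, hj⟩ := Nat.exists_eq_pow_mul_and_not_dvd
      (orderOf_pos (g : H)).ne' 2 (by norm_num)
    refine ⟨j, ?_⟩
    have ho : orderOf ((g : H) ^ 2 ^ j) = m := by
      rw [orderOf_pow_of_dvd (by positivity) ⟨m, hj⟩, hj, Nat.mul_div_cancel_left _ (by positivity)]
    have h1 := hodd ((g : H) ^ 2 ^ j) (Subgroup.pow_mem _ g.2 _)
      (by rw [ho, Nat.coprime_two_right, Nat.odd_iff]; omega)
    exact Subtype.ext (by simpa using h1)
  have heq : Subgroup.normalizer ((S₀ : Subgroup H) : Set H) = (S₀ : Subgroup H) :=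
    S₀.3 hN Subgroup.le_normalizer
  obtain ⟨c, hc⟩ := MulAction.exists_smul_eq H S₀ S
  have hmap : (S : Subgroup H) = (S₀ : Subgroup H).map (MulAut.conj c : H ≃* H).toMonoidHom := by
    rw [← hc, Sylow.coe_subgroup_smul]
    rfl
  rw [hmap, ← Subgroup.map_normalizer_eq_of_bijective _ (MulEquiv.bijective _), heq]

end Cfsg.Agent.Lib.M24Sylow55
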