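import Mathlib
import Cfsg.Agent.Lib.MinimalNormal
import Cfsg.Agent.Lib.PSolvable.PSolv
import Cfsg.Agent.Lib.SZ.Conjugacy

/-!
Finite `p`-soluble groups all of whose maximal subgroups are `p`-nilpotent or of prime index have
`p`-length at most two.
-/

set_option autoImplicit false

namespace Cfsg.Agent.Lib.PLengthTwoMax

variable {G : Type*} [Group G] {p : ℕ}

/-- Every maximal subgroup is `p`-nilpotent or has prime index. -/
def HMax (p : ℕ) (G : Type*) [Group G] : Prop :=
  ∀ M : Subgroup G, IsCoatom M →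
    (∃ K : Subgroup ↥M, K.Normal ∧ ¬ p ∣ Nat.card K ∧ ∃ k : ℕ, K.index = p ^ k) ∨ (M.index).Prime

/-- The series witnessing `p`-length at most two; `t` records that the last term is not needed. -/
def Good (p : ℕ) (t : Prop) (G : Type*) [Group G] : Prop :=
  ∃ A B C D : Subgroup G, A.Normal ∧ B.Normal ∧ C.Normal ∧ D.Normal ∧ A ≤ B ∧ B ≤ C ∧ C ≤ D ∧
    ¬ p ∣ Nat.card A ∧ (∃ k : ℕ, A.relIndex B = p ^ k) ∧ ¬ p ∣ B.relIndex C ∧
    (∃ k : ℕ, C.relIndex D = p ^ k) ∧ ¬ p ∣ D.index ∧ (t → D = ⊤)

theorem relIndex_dvd_of_le_right (X : Subgroup G) [X.Normal] {Y Y' : Subgroup G} (h : Y ≤ Y') :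
    X.relIndex Y ∣ X.relIndex Y' := by
  rw [← Subgroup.relIndex_sup_right (H := Y) (K := X), ← Subgroup.relIndex_sup_right (H := Y') (K := X)]
  exact Dvd.intro _ (Subgroup.relIndex_mul_relIndex _ _ _ le_sup_right
    (sup_le_sup_right h X))

theorem relIndex_inf_dvd (X1 X2 : Subgroup G) [X1.Normal] [X2.Normal] {Y1 Y2 : Subgroup G} :
    (X1 ⊓ X2).relIndex (Y1 ⊓ Y2) ∣ X1.relIndex Y1 * X2.relIndex Y2 := by
  set Y := Y1 ⊓ Y2 with hY
  have h1 : (X1 ⊓ X2).relIndex (X1 ⊓ Y) = X2.relIndex (X1 ⊓ Y) := by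
    rw [← Subgroup.inf_relIndex_right (X1 ⊓ X2), ← Subgroup.inf_relIndex_right X2]
    congr 1
    ext x
    simp only [Subgroup.mem_inf]
    tauto
  have h2 : (X1 ⊓ X2).relIndex Y = (X1 ⊓ X2).relIndex (X1 ⊓ Y) * X1.relIndex Y := by
    rw [← Subgroup.inf_relIndex_right X1 Y, ← Subgroup.inf_relIndex_right (X1 ⊓ X2) Y,
      ← Subgroup.inf_relIndex_right (X1 ⊓ X2) (X1 ⊓ Y)]
    rw [show X1 ⊓ X2 ⊓ (X1 ⊓ Y) = X1 ⊓ X2 ⊓ Y from by
      rw [inf_inf_inf_comm, inf_idem, ← inf_assoc]]
    exact (Subgroup.relIndex_mul_relIndex _ _ _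
      (le_inf (inf_le_left.trans inf_le_left) inf_le_right) inf_le_right).symm
  rw [h2, h1, mul_comm]
  exact Nat.mul_dvd_mul (relIndex_dvd_of_le_right X1 inf_le_left)
    (relIndex_dvd_of_le_right X2 (inf_le_right.trans inf_le_right))

theorem ppow_of_dvd_mul [hp : Fact p.Prime] {a b c : ℕ} (h : a ∣ b * c)
    (hb : ∃ k, b = p ^ k) (hc : ∃ k, c = p ^ k) : ∃ k, a = p ^ k := by
  obtain ⟨i, rfl⟩ := hb
  obtain ⟨j, rfl⟩ := hc
  rw [← pow_add] at h
  obtain ⟨k, -, hk⟩ := (Nat.dvd_prime_pow hp.out).mp h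
  exact ⟨k, hk⟩

theorem not_dvd_of_dvd_mul [hp : Fact p.Prime] {a b c : ℕ} (h : a ∣ b * c)
    (hb : ¬ p ∣ b) (hc : ¬ p ∣ c) : ¬ p ∣ a :=
  fun ha => (hp.out.dvd_mul.mp (ha.trans h)).elim hb hc

/-- If `N` and `K` are normal with trivial intersection and both quotients are good, so is `G`. -/
theorem good_of_inf [Fact p.Prime] {t : Prop} (N K : Subgroup G) [N.Normal] [K.Normal]
    (h : N ⊓ K = ⊥) (hN : Good p t (G ⧸ N)) (hK : Good p t (G ⧸ K)) : Good p t G := by
  obtain ⟨A, B, C, D, hA, hB, hC, hD, hAB, hBC, hCD, h1, h2, h3, h4, h5, h6⟩ := hN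
  obtain ⟨A', B', C', D', hA', hB', hC', hD', hAB', hBC', hCD', h1', h2', h3', h4', h5', h6'⟩ := hK
  set f := QuotientGroup.mk' N with hf
  set g := QuotientGroup.mk' K with hg
  have rf : ∀ X Y : Subgroup (G ⧸ N), (X.comap f).relIndex (Y.comap f) = X.relIndex Y := fun X Y => by
    rw [Subgroup.relIndex_comap, Subgroup.map_comap_eq_self_of_surjective (QuotientGroup.mk'_surjective N)]
  have rg : ∀ X Y : Subgroup (G ⧸ K), (X.comap g).relIndex (Y.comap g) = X.relIndex Y := fun X Y => by
    rw [Subgroup.relIndex_comap, Subgroup.map_comap_eq_self_of_surjective (QuotientGroup.mk'_surjective K)]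
  have key : ∀ (X Y : Subgroup (G ⧸ N)) (X' Y' : Subgroup (G ⧸ K)), X.Normal → X'.Normal →
      (X.comap f ⊓ X'.comap g).relIndex (Y.comap f ⊓ Y'.comap g) ∣
        X.relIndex Y * X'.relIndex Y' := by
    intro X Y X' Y' hX hX'
    rw [← rf X Y, ← rg X' Y']
    exact relIndex_inf_dvd _ _
  refine ⟨A.comap f ⊓ A'.comap g, B.comap f ⊓ B'.comap g, C.comap f ⊓ C'.comap g,
    D.comap f ⊓ D'.comap g, inferInstance, inferInstance, inferInstance, inferInstance,
    inf_le_inf (Subgroup.comap_mono hAB) (Subgroup.comap_mono hAB'),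
    inf_le_inf (Subgroup.comap_mono hBC) (Subgroup.comap_mono hBC'),
    inf_le_inf (Subgroup.comap_mono hCD) (Subgroup.comap_mono hCD'),
    ?_, ?_, ?_, ?_, ?_, ?_⟩
  · have hk := key ⊥ A ⊥ A' inferInstance inferInstance
    rw [MonoidHom.comap_bot, MonoidHom.comap_bot, hf, hg, QuotientGroup.ker_mk',
      QuotientGroup.ker_mk', h, Subgroup.relIndex_bot_left, Subgroup.relIndex_bot_left,
      Subgroup.relIndex_bot_left] at hk
    exact not_dvd_of_dvd_mul hk h1 h1'
  · exact ppow_of_dvd_mul (key A B A' B' hA hA') h2 h2'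
  · exact not_dvd_of_dvd_mul (key B C B' C' hB hB') h3 h3'
  · exact ppow_of_dvd_mul (key C D C' D' hC hC') h4 h4'
  · have hk := key D ⊤ D' ⊤ hD hD'
    rw [Subgroup.comap_top, Subgroup.comap_top, top_inf_eq, Subgroup.relIndex_top_right,
      Subgroup.relIndex_top_right, Subgroup.relIndex_top_right] at hk
    exact not_dvd_of_dvd_mul hk h5 h5'
  · intro ht
    rw [h6 ht, h6' ht, Subgroup.comap_top, Subgroup.comap_top, top_inf_eq]

theorem card_comap_mk (N : Subgroup G) [N.Normal] (A : Subgroup (G ⧸ N)) :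
    Nat.card (A.comap (QuotientGroup.mk' N)) = Nat.card N * Nat.card A := by
  have h := Subgroup.relIndex_comap (f := QuotientGroup.mk' N) (⊥ : Subgroup (G ⧸ N))
    (A.comap (QuotientGroup.mk' N))
  rw [MonoidHom.comap_bot, QuotientGroup.ker_mk',
    Subgroup.map_comap_eq_self_of_surjective (QuotientGroup.mk'_surjective N),
    Subgroup.relIndex_bot_left] at h
  rw [← h, ← Subgroup.relIndex_bot_left N, Subgroup.relIndex_mul_relIndex _ _ _ bot_le,
    Subgroup.relIndex_bot_left]
  exact QuotientGroup.le_comap_mk' N A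

theorem good_of_primeTo [Fact p.Prime] {t : Prop} (N : Subgroup G) [N.Normal]
    (hN : ¬ p ∣ Nat.card N) (h : Good p t (G ⧸ N)) : Good p t G := by
  obtain ⟨A, B, C, D, hA, hB, hC, hD, hAB, hBC, hCD, h1, h2, h3, h4, h5, h6⟩ := h
  set f := QuotientGroup.mk' N with hf
  have hs : Function.Surjective f := QuotientGroup.mk'_surjective N
  have rf : ∀ X Y : Subgroup (G ⧸ N), (X.comap f).relIndex (Y.comap f) = X.relIndex Y := fun X Y => by
    rw [Subgroup.relIndex_comap, Subgroup.map_comap_eq_self_of_surjective hs]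
  refine ⟨A.comap f, B.comap f, C.comap f, D.comap f, inferInstance, inferInstance, inferInstance,
    inferInstance, Subgroup.comap_mono hAB, Subgroup.comap_mono hBC, Subgroup.comap_mono hCD,
    ?_, by rwa [rf], by rwa [rf], by rwa [rf], by rwa [Subgroup.index_comap_of_surjective _ hs],
    fun ht => by rw [h6 ht, Subgroup.comap_top]⟩
  rw [hf, card_comap_mk]
  exact fun hd => ((Fact.out : p.Prime).dvd_mul.mp hd).elim hN h1

/-- A normal `p`-subgroup inside the Frattini subgroup, in a group without normal `p'`-subgroup. -/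
theorem good_of_frattini [Finite G] [hp : Fact p.Prime] {t : Prop} (N : Subgroup G) [N.Normal]
    (hNp : IsPGroup p N) (hNΦ : N ≤ frattini G)
    (hcore : ∀ K : Subgroup G, K.Normal → ¬ p ∣ Nat.card K → K = ⊥)
    (h : Good p t (G ⧸ N)) : Good p t G := by
  obtain ⟨A, B, C, D, hA, hB, hC, hD, hAB, hBC, hCD, h1, h2, h3, h4, h5, h6⟩ := h
  set f := QuotientGroup.mk' N with hf
  have hs : Function.Surjective f := QuotientGroup.mk'_surjective N
  have rf : ∀ X Y : Subgroup (G ⧸ N), (X.comap f).relIndex (Y.comap f) = X.relIndex Y := fun X Y => by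
    rw [Subgroup.relIndex_comap, Subgroup.map_comap_eq_self_of_surjective hs]
  obtain ⟨n, hn⟩ := IsPGroup.iff_card.mp hNp
  have hA0 : A = ⊥ := by
    set T := A.comap f with hT
    have hNT : N ≤ T := QuotientGroup.le_comap_mk' N A
    have hTn : T.Normal := hA.comap f
    have hcard : Nat.card T = Nat.card N * Nat.card A := card_comap_mk N A
    set N' : Subgroup T := N.subgroupOf T with hN'
    have hc1 : Nat.card N' = p ^ n := by
      rw [hN', Nat.card_congr (Subgroup.subgroupOfEquivOfLe hNT).toEquiv, hn]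
    have hc2 : N'.index = Nat.card A := by
      have := N'.card_mul_index
      rw [hcard, hn, hc1] at this
      exact Nat.eq_of_mul_eq_mul_left (pow_pos hp.out.pos n) this
    have hcop : (Nat.card N').Coprime N'.index := by
      rw [hc1, hc2]
      exact Nat.Coprime.pow_left n (hp.out.coprime_iff_not_dvd.mpr h1)
    obtain ⟨K, hK⟩ := Subgroup.exists_right_complement'_of_coprime hcop
    have hKcard : Nat.card K = N'.index := hK.symm.index_eq_card.symm
    set K0 : Subgroup G := K.map T.subtype with hK0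
    have hK0card : Nat.card K0 = Nat.card A := by
      rw [hK0, Subgroup.card_map_of_injective T.subtype_injective, hKcard, hc2]
    have hK0T : K0 ≤ T := Subgroup.map_subtype_le K
    have hsolv : Group.IsSolvable N' := by
      have : IsPGroup p N' := IsPGroup.of_card hc1
      have := this.isNilpotent
      infer_instance
    have hgen : N ⊔ Subgroup.normalizer (K0 : Set G) = ⊤ := by
      refine eq_top_iff.mpr fun g _ => ?_
      set K1 : Subgroup G := K0.map (MulAut.conj g).toMonoidHom with hK1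
      have hK1T : K1 ≤ T := by
        rintro _ ⟨x, hx, rfl⟩
        exact hTn.conj_mem x (hK0T hx) g
      have hK1card : Nat.card (K1.subgroupOf T) = N'.index := by
        rw [Nat.card_congr (Subgroup.subgroupOfEquivOfLe hK1T).toEquiv, hK1,
          Subgroup.card_map_of_injective (MulEquiv.injective _), hK0card, hc2]
      obtain ⟨a, ha, he⟩ := Cfsg.Agent.Lib.SZ.exists_mem_conj_of_card_eq_index N' K
        (K1.subgroupOf T) hcop (Or.inl hsolv) hKcard hK1card
      have haN : (a : G) ∈ N := ha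
      have hmem : ∀ x : G, x ∈ K0 ↔ (a : G) * x * (a : G)⁻¹ ∈ K1 := by
        intro x
        constructor
        · rintro ⟨y, hy, rfl⟩
          have : a * y * a⁻¹ ∈ K1.subgroupOf T := he ▸ ⟨y, hy, rfl⟩
          exact this
        · intro hx
          have hxT : x ∈ T := by
            have h' := hTn.conj_mem _ (hK1T hx) (a : G)⁻¹
            simpa [mul_assoc] using h'
          have h' : a * ⟨x, hxT⟩ * a⁻¹ ∈ K1.subgroupOf T := hx
          rw [← he] at h'
          obtain ⟨y, hy, hy'⟩ := h'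
          have hyx : y = ⟨x, hxT⟩ := by
            simpa using hy'
          exact ⟨y, hy, by rw [hyx]; rfl⟩
      have hg : (a : G)⁻¹ * g ∈ Subgroup.normalizer (K0 : Set G) := by
        rw [Subgroup.mem_normalizer_iff]
        intro x
        have e1 : x ∈ K0 ↔ g * x * g⁻¹ ∈ K1 := by
          rw [hK1]
          constructor
          · intro hx; exact ⟨x, hx, rfl⟩
          · rintro ⟨y, hy, hyx⟩
            have : g * y * g⁻¹ = g * x * g⁻¹ := hyx
            rwa [← mul_left_cancel (mul_right_cancel this)]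
        rw [e1, hmem ((a : G)⁻¹ * g * x * ((a : G)⁻¹ * g)⁻¹)]
        simp [mul_assoc]
      rw [show g = (a : G) * ((a : G)⁻¹ * g) by group]
      exact mul_mem (Subgroup.mem_sup_left haN) (Subgroup.mem_sup_right hg)
    have htop : Subgroup.normalizer (K0 : Set G) = ⊤ := frattini_nongenerating <| top_le_iff.mp <| by
      rw [← hgen]
      exact sup_le (hNΦ.trans le_sup_right) le_sup_left
    have hK0n : K0.Normal := Subgroup.normalizer_eq_top_iff.mp htop
    have := hcore K0 hK0n (by rwa [hK0card])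
    rw [this, Subgroup.card_bot] at hK0card
    exact Subgroup.eq_bot_of_card_eq A hK0card.symm
  refine ⟨⊥, B.comap f, C.comap f, D.comap f, inferInstance, inferInstance, inferInstance,
    inferInstance, bot_le, Subgroup.comap_mono hBC, Subgroup.comap_mono hCD, ?_, ?_, by rwa [rf],
    by rwa [rf], by rwa [Subgroup.index_comap_of_surjective _ hs],
    fun ht => by rw [h6 ht, Subgroup.comap_top]⟩
  · rw [Subgroup.card_bot]; exact hp.out.not_dvd_one
  · rw [Subgroup.relIndex_bot_left, hf, card_comap_mk]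
    obtain ⟨k, hk⟩ := h2
    rw [hA0, Subgroup.relIndex_bot_left] at hk
    exact ⟨n + k, by rw [hn, hk, pow_add]⟩

theorem hMax_quotient [Finite G] [hp : Fact p.Prime] (N : Subgroup G) [N.Normal] (h : HMax p G) :
    HMax p (G ⧸ N) := by
  intro M hM
  set f := QuotientGroup.mk' N with hf
  have hs : Function.Surjective f := QuotientGroup.mk'_surjective N
  have hM' : IsCoatom (M.comap f) := by
    refine ⟨fun e => hM.1 ?_, fun X hX => ?_⟩
    · rw [← Subgroup.map_comap_eq_self_of_surjective hs M, e, Subgroup.map_top_of_surjective _ hs]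
    · have hker : f.ker ≤ X := (Subgroup.ker_le_comap f M).trans hX.le
      have e : (X.map f).comap f = X := Subgroup.comap_map_eq_self hker
      have hlt : M < X.map f := by
        rw [← Subgroup.comap_lt_comap_of_surjective hs, e]
        exact hX
      rw [← e, hM.2 _ hlt, Subgroup.comap_top]
  rcases h _ hM' with ⟨K, hKn, hK1, k, hk⟩ | hpr
  · left
    set g : ↥(M.comap f) →* ↥M := f.subgroupComap M with hg
    have hgs : Function.Surjective g := by
      rintro ⟨y, hy⟩
      obtain ⟨x, rfl⟩ := hs y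
      exact ⟨⟨x, hy⟩, rfl⟩
    refine ⟨K.map g, Subgroup.Normal.map hKn g hgs, fun hd => hK1 (hd.trans (Subgroup.card_map_dvd K g)), ?_⟩
    have hd : (K.map g).index ∣ K.index := Subgroup.index_map_dvd K hgs
    rw [hk] at hd
    obtain ⟨j, -, hj⟩ := (Nat.dvd_prime_pow hp.out).mp hd
    exact ⟨j, hj⟩
  · right
    rwa [Subgroup.index_comap_of_surjective _ hs] at hpr

universe u

theorem good_of_hMax [hp : Fact p.Prime] {t : Prop} (ht : t → p = 2) :
    ∀ {G : Type u} [Group G] [Finite G], Cfsg.IsPSolvable p G → HMax p G → Good p t G := by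
  suffices H : ∀ (k : ℕ) {G : Type u} [Group G] [Finite G], Nat.card G ≤ k →
      Cfsg.IsPSolvable p G → HMax p G → Good p t G from
    fun {G} _ _ => H (Nat.card G) le_rfl
  intro k
  induction k using Nat.strong_induction_on with
  | _ k ih =>
  intro G _ _ hk hsol hmax
  have IH : ∀ N : Subgroup G, [N.Normal] → N ≠ ⊥ → Good p t (G ⧸ N) := by
    intro N _ hN
    have hlt : Nat.card (G ⧸ N) < Nat.card G := by
      have h1 := Subgroup.card_eq_card_quotient_mul_card_subgroup N
      have h2 : 1 < Nat.card N := N.one_lt_card_iff_ne_bot.mpr hN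
      rw [h1]
      exact lt_mul_of_one_lt_right Nat.card_pos h2
    exact ih _ (lt_of_lt_of_le hlt hk) le_rfl
      (Cfsg.Agent.Lib.PSolvable.isPSolvable_quotient hsol N) (hMax_quotient N hmax)
  rcases subsingleton_or_nontrivial G with hsub | hnt
  · refine ⟨⊥, ⊥, ⊥, ⊤, inferInstance, inferInstance, inferInstance, inferInstance, le_rfl, le_rfl,
      bot_le, ?_, ⟨0, ?_⟩, ?_, ⟨0, ?_⟩, ?_, fun _ => rfl⟩ <;>
      simp [hp.out.not_dvd_one]
  by_cases hcore : ∃ K : Subgroup G, K.Normal ∧ ¬ p ∣ Nat.card K ∧ K ≠ ⊥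
  · obtain ⟨K, hKn, hK, hK1⟩ := hcore
    exact good_of_primeTo K hK (IH K hK1)
  push Not at hcore
  obtain ⟨N, hNn, hN1, -, hmin⟩ := Cfsg.Agent.Lib.MinimalNormal.exists_minimal_normal_le
    (M := (⊤ : Subgroup G)) inferInstance top_ne_bot
  have hNp : IsPGroup p N := by
    obtain ⟨M, hMn, hMN, hM1, hM2⟩ := Cfsg.Agent.Lib.PSolvable.exists_normal_le_of_isPSolvable N hN1
      (Cfsg.Agent.Lib.PSolvable.isPSolvable_subgroup hsol N)
    obtain rfl : M = N := (hmin M hMn hMN).resolve_left hM1
    rcases hM2 with h | h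
    · exact h
    · exact absurd (hcore M hMn (hp.out.coprime_iff_not_dvd.mp h.symm)) hM1
  have hNsolv : Group.IsSolvable N := by
    have := hNp.isNilpotent
    infer_instance
  obtain ⟨hNc, q, hq, hexp⟩ := Cfsg.Agent.Lib.MinimalNormal.elementaryAbelian N hN1 hmin
  by_cases hΦ : N ≤ frattini G
  · exact good_of_frattini N hNp hΦ hcore (IH N hN1)
  obtain ⟨M, hM, hNM⟩ : ∃ M : Subgroup G, IsCoatom M ∧ ¬ N ≤ M := by
    by_contra hno
    push Not at hno
    apply hΦ
    rw [frattini, Order.radical]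
    exact le_iInf₂ fun M hM => hno M hM
  have hc := Cfsg.Agent.Lib.MinimalNormal.isComplement'_of_isCoatom N hmin hM hNM
  obtain ⟨n, hn⟩ := IsPGroup.iff_card.mp hNp
  have hdisj : N ⊓ M = ⊥ := hc.disjoint.eq_bot
  have hsup : N ⊔ M = ⊤ := hc.sup_eq_top
  rcases hmax M hM with ⟨K, hKn, hK1, j, hj⟩ | hpr
  · -- `M` is `p`-nilpotent
    set K0 : Subgroup G := K.map M.subtype with hK0
    have hK0M : K0 ≤ M := Subgroup.map_subtype_le K
    have hC : (N ⊔ K0).Normal := by
      refine Subgroup.normalizer_eq_top_iff.mp (top_le_iff.mp ?_)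
      rw [← hsup]
      refine sup_le (le_sup_left.trans Subgroup.le_normalizer) fun m hm => ?_
      rw [Subgroup.mem_normalizer_iff]
      intro x
      have hn1 : ∀ g ∈ M, ∀ y ∈ N ⊔ K0, g * y * g⁻¹ ∈ N ⊔ K0 := by
        intro g hg y hy
        have hle : (N ⊔ K0).map (MulAut.conj g).toMonoidHom ≤ N ⊔ K0 := by
          rw [Subgroup.map_sup]
          refine sup_le_sup ?_ ?_
          · rintro _ ⟨z, hz, rfl⟩
            exact hNn.conj_mem z hz g
          · rintro _ ⟨_, ⟨z, hz, rfl⟩, rfl⟩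
            exact ⟨⟨g, hg⟩ * z * ⟨g, hg⟩⁻¹, hKn.conj_mem z hz ⟨g, hg⟩, rfl⟩
        exact hle ⟨y, hy, rfl⟩
      refine ⟨hn1 m hm x, fun hx => ?_⟩
      have := hn1 m⁻¹ (inv_mem hm) _ hx
      simpa [mul_assoc] using this
    have hd : N ⊓ K0 = ⊥ := le_bot_iff.mp ((inf_le_inf_left N hK0M).trans hdisj.le)
    have hrel : N.relIndex (N ⊔ K0) = Nat.card K := by
      rw [Subgroup.relIndex_sup_left, ← Subgroup.inf_relIndex_right, hd, Subgroup.relIndex_bot_left,
        hK0, Subgroup.card_map_of_injective M.subtype_injective]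
    have hidx : (N ⊔ K0).index = p ^ j := by
      have h1 := Subgroup.relIndex_mul_index (le_sup_left : N ≤ N ⊔ K0)
      have h2 : N.index = Nat.card M := hc.symm.index_eq_card
      rw [hrel, h2, ← K.card_mul_index, hj] at h1
      exact Nat.eq_of_mul_eq_mul_left Nat.card_pos h1
    refine ⟨⊥, N, N ⊔ K0, ⊤, inferInstance, hNn, hC, inferInstance, bot_le, le_sup_left, le_top,
      ?_, ⟨n, by rw [Subgroup.relIndex_bot_left, hn]⟩, by rwa [hrel],
      ⟨j, by rw [Subgroup.relIndex_top_right, hidx]⟩, ?_, fun _ => rfl⟩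
    · rw [Subgroup.card_bot]; exact hp.out.not_dvd_one
    · rw [Subgroup.index_top]; exact hp.out.not_dvd_one
  · -- `N` has prime order
    have hcardN : Nat.card N = p := by
      rw [hc.index_eq_card, hn] at hpr
      have : n = 1 := by
        by_contra hne
        exact Nat.Prime.not_prime_pow' hne hpr
      rw [hn, this, pow_one]
    set C : Subgroup G := Subgroup.centralizer (N : Set G) with hC
    have hCMn : (C ⊓ M).Normal := by
      refine Subgroup.normalizer_eq_top_iff.mp (top_le_iff.mp ?_)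
      rw [← hsup]
      refine sup_le (fun a ha => ?_) (fun m hm => ?_)
      · rw [Subgroup.mem_normalizer_iff]
        intro x
        have hfix : ∀ b ∈ N, ∀ y ∈ C, b * y * b⁻¹ = y := fun b hb y hy => by
          rw [Subgroup.mem_centralizer_iff.mp hy b hb, mul_inv_cancel_right]
        constructor
        · intro hx; rwa [hfix a ha x hx.1]
        · intro hx
          have := hfix a⁻¹ (inv_mem ha) _ hx.1
          have e : a⁻¹ * (a * x * a⁻¹) * a⁻¹⁻¹ = x := by group
          rw [e] at this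
          rwa [← this] at hx
      · rw [Subgroup.mem_normalizer_iff]
        intro x
        have hn1 : ∀ g ∈ M, ∀ y ∈ C ⊓ M, g * y * g⁻¹ ∈ C ⊓ M := fun g hg y hy =>
          ⟨(inferInstance : C.Normal).conj_mem y hy.1 g, M.mul_mem (M.mul_mem hg hy.2) (M.inv_mem hg)⟩
        refine ⟨hn1 m hm x, fun hx => ?_⟩
        have := hn1 m⁻¹ (inv_mem hm) _ hx
        simpa [mul_assoc] using this
    by_cases hCM : C ⊓ M = ⊥
    · have hcyc : IsCyclic N := isCyclic_of_prime_card hcardN
      have hdvd : Nat.card M ∣ Nat.card (MulAut N) := by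
        refine Subgroup.card_dvd_of_injective ((MulAut.conjNormal (H := N)).comp M.subtype) ?_
        rw [injective_iff_map_eq_one]
        intro m hm
        have hmC : (m : G) ∈ C := by
          rw [hC, Subgroup.mem_centralizer_iff]
          intro y hy
          have h1 := congrArg (fun φ : MulAut N => ((φ ⟨y, hy⟩ : N) : G)) hm
          simp only [MonoidHom.coe_comp, Function.comp_apply, Subgroup.coe_subtype,
            MulAut.conjNormal_apply, MulAut.one_apply] at h1
          exact (mul_inv_eq_iff_eq_mul.mp h1).symm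
        have : (m : G) ∈ C ⊓ M := ⟨hmC, m.2⟩
        rw [hCM, Subgroup.mem_bot] at this
        exact Subtype.ext this
      rw [IsCyclic.card_mulAut, hcardN, Nat.totient_prime hp.out] at hdvd
      have hlt : p - 1 < p := Nat.sub_lt hp.out.pos one_pos
      have hM' : ¬ p ∣ Nat.card M := fun h => by
        have := Nat.le_of_dvd (Nat.sub_pos_of_lt hp.out.one_lt) (h.trans hdvd)
        omega
      refine ⟨⊥, N, ⊤, ⊤, inferInstance, hNn, inferInstance, inferInstance, bot_le, le_top, le_top,
        ?_, ⟨n, by rw [Subgroup.relIndex_bot_left, hn]⟩,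
        by rwa [Subgroup.relIndex_top_right, hc.symm.index_eq_card],
        ⟨0, by simp⟩, ?_, fun _ => rfl⟩
      · rw [Subgroup.card_bot]; exact hp.out.not_dvd_one
      · rw [Subgroup.index_top]; exact hp.out.not_dvd_one
    · refine good_of_inf N (C ⊓ M) ?_ (IH N hN1) (IH _ hCM)
      exact le_bot_iff.mp ((inf_le_inf_left N inf_le_right).trans hdisj.le)

end Cfsg.Agent.Lib.PLengthTwoMax
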