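import Mathlib
import Cfsg.Prelude.Def_Sz

/-!
In the Suzuki group over the field with two elements (of order 20) the involutions lie in a proper subgroup.
-/

set_option autoImplicit false
set_option maxRecDepth 100000

namespace Cfsg.Agent.Lib.SzTwo55

open Matrix

theorem map_mem_Sz {F K : Type*} [Field F] [Field K] (e : F ≃+* K) (n : ℕ) :
    (Cfsg.Lie.Sz F n).map (Matrix.GeneralLinearGroup.map e.toRingHom) ≤ Cfsg.Lie.Sz K n := by
  rw [Cfsg.Lie.Sz, MonoidHom.map_closure]
  refine Subgroup.closure_le _ |>.2 ?_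
  rintro _ ⟨g, ⟨hg, hs⟩, rfl⟩
  refine Subgroup.subset_closure ⟨?_, ?_⟩
  · intro u v
    have h := congrArg e (hg (e.symm ∘ u) (e.symm ∘ v))
    simpa [Cfsg.Lie.altForm4, Matrix.mulVec, dotProduct, Fin.sum_univ_four] using h
  · ext i j
    have h := congrArg e (congrFun (congrFun hs i) j)
    simpa [Cfsg.Lie.star4] using h

/-- The vector with the given bits. -/
def vec (n : Fin 16) : Fin 4 → ZMod 2 := fun i => ((n.val / 2 ^ i.val : ℕ) : ZMod 2)

/-- The matrix with the given columns. -/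
def mat (c : Fin 4 → Fin 16) : Matrix (Fin 4) (Fin 4) (ZMod 2) := Matrix.of fun i j => vec (c j) i

theorem vec_surjective : ∀ v : Fin 4 → ZMod 2, ∃ n, vec n = v := by decide +kernel

/-- The minor column of two columns. -/
def minor (a b : Fin 4 → ZMod 2) : Fin 4 → ZMod 2 := fun p =>
  a (Cfsg.Lie.pairOf p).1 * b (Cfsg.Lie.pairOf p).2 - a (Cfsg.Lie.pairOf p).2 * b (Cfsg.Lie.pairOf p).1

/-- The elements. -/
def elts : List (Fin 4 → Fin 16) :=
  [![1, 2, 4, 8], ![1, 2, 5, 11], ![1, 3, 6, 15], ![1, 3, 7, 13], ![8, 4, 2, 1], ![8, 4, 10, 13],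
   ![8, 12, 6, 15], ![8, 12, 14, 11], ![11, 5, 2, 1], ![11, 5, 9, 15], ![11, 14, 7, 13],
   ![11, 14, 12, 8], ![13, 7, 3, 1], ![13, 7, 14, 11], ![13, 10, 4, 8], ![13, 10, 9, 15],
   ![15, 6, 3, 1], ![15, 6, 12, 8], ![15, 9, 5, 11], ![15, 9, 10, 13]]

/-- The products of two involutions. -/
def dihElts : List (Fin 4 → Fin 16) :=
  [![1, 2, 4, 8], ![1, 2, 5, 11], ![8, 4, 2, 1], ![8, 4, 10, 13], ![11, 5, 2, 1], ![11, 5, 9, 15],
   ![13, 10, 4, 8], ![13, 10, 9, 15], ![15, 9, 5, 11], ![15, 9, 10, 13]]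

/-- A bit of a code. -/
def bitN (n : Fin 16) (k : Fin 4) : ℕ := n.val / 2 ^ k.val % 2

/-- One coordinate of the minor column, on codes. -/
def minBit (a b : Fin 16) (k l : Fin 4) : ℕ := (bitN a k * bitN b l + bitN a l * bitN b k) % 2

/-- The minor column, on codes. -/
def minC (a b : Fin 16) : Fin 16 :=
  ⟨(minBit a b 0 1 + 2 * minBit a b 0 2 + 4 * minBit a b 1 3 + 8 * minBit a b 2 3) % 16,
    Nat.mod_lt _ (by norm_num)⟩

/-- The alternating form, on codes. -/
def formC (a b : Fin 16) : ℕ :=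
  (bitN a 0 * bitN b 3 + bitN a 1 * bitN b 2 + bitN a 2 * bitN b 1 + bitN a 3 * bitN b 0) % 2

theorem vec_minC : ∀ a b : Fin 16, vec (minC a b) = minor (vec a) (vec b) := by decide +kernel

theorem formC_cast : ∀ a b : Fin 16, Cfsg.Lie.altForm4 (vec a) (vec b) = (formC a b : ZMod 2) := by
  decide +kernel

/-- Membership in a list of codes. -/
def memB (x : Fin 4 → Fin 16) (l : List (Fin 4 → Fin 16)) : Bool :=
  l.any fun e => e 0 == x 0 && e 1 == x 1 && e 2 == x 2 && e 3 == x 3

theorem mem_of_memB {x : Fin 4 → Fin 16} {l : List (Fin 4 → Fin 16)} (h : memB x l = true) : x ∈ l := by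
  obtain ⟨e, he, hx⟩ := List.any_eq_true.1 h
  simp only [Bool.and_eq_true, beq_iff_eq] at hx
  obtain ⟨⟨⟨h0, h1⟩, h2⟩, h3⟩ := hx
  rwa [show x = e from funext fun i => by fin_cases i <;> simp [h0, h1, h2, h3]]

/-- The last conditions on the columns. -/
def lastCond (a b c d : Fin 16) : Bool :=
  minC b d == c && minC c d == d && formC a d == 1 && formC b c == 1 && formC a c == 0 &&
    formC b d == 0 && formC c d == 0

theorem enum_code : ∀ a b : Fin 16, minC a b = a → formC a b = 0 → ∀ c : Fin 16, minC a c = b →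
    ∀ d : Fin 16, lastCond a b c d = true → memB ![a, b, c, d] elts = true := by
  decide +kernel

theorem vec_injective : ∀ m n : Fin 16, vec m = vec n → m = n := by decide +kernel

/-- The code of a sum of columns. -/
def addC (m n : Fin 16) : Fin 16 := ⟨(m.val ^^^ n.val) % 16, Nat.mod_lt _ (by norm_num)⟩

/-- A column scaled by a bit. -/
def bitC (n : Fin 16) (k : ℕ) (x : Fin 16) : Fin 16 := if n.val / 2 ^ k % 2 = 1 then x else 0

/-- The code of a product. -/
def mulC (a b : Fin 4 → Fin 16) : Fin 4 → Fin 16 := fun j =>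
  addC (addC (addC (bitC (b j) 0 (a 0)) (bitC (b j) 1 (a 1))) (bitC (b j) 2 (a 2))) (bitC (b j) 3 (a 3))

theorem vec_addC : ∀ m n : Fin 16, vec (addC m n) = vec m + vec n := by decide +kernel

theorem vec_bitC (n : Fin 16) (k : Fin 4) (x : Fin 16) : vec (bitC n k x) = vec n k • vec x := by
  have h : ∀ n : Fin 16, ∀ k : Fin 4, vec n k = if n.val / 2 ^ k.val % 2 = 1 then 1 else 0 := by
    decide +kernel
  rw [bitC, h n k]
  split
  · rw [one_smul]
  · rw [zero_smul]
    funext i
    simp [vec]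

theorem mat_mul (a b : Fin 4 → Fin 16) : mat a * mat b = mat (mulC a b) := by
  refine Matrix.ext fun i j => ?_
  show ∑ k : Fin 4, vec (a k) i * vec (b j) k = vec (mulC a b j) i
  have h0 : vec (bitC (b j) 0 (a 0)) = _ := vec_bitC (b j) 0 (a 0)
  have h1 : vec (bitC (b j) 1 (a 1)) = _ := vec_bitC (b j) 1 (a 1)
  have h2 : vec (bitC (b j) 2 (a 2)) = _ := vec_bitC (b j) 2 (a 2)
  have h3 : vec (bitC (b j) 3 (a 3)) = _ := vec_bitC (b j) 3 (a 3)
  rw [mulC, vec_addC, vec_addC, vec_addC, Fin.sum_univ_four, h0, h1, h2, h3]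
  simp only [Pi.add_apply, Pi.smul_apply, smul_eq_mul]
  ring

theorem mat_injective : Function.Injective mat := fun a b h =>
  funext fun j => vec_injective _ _ (funext fun i => congrFun (congrFun h i) j)

theorem mat_one : mat ![1, 2, 4, 8] = 1 := by
  have h : ∀ i j : Fin 4, vec (![1, 2, 4, 8] j) i = if i = j then 1 else 0 := by decide +kernel
  refine Matrix.ext fun i j => ?_
  rw [Matrix.one_apply]
  exact h i j

theorem one_mem : (1 : Matrix (Fin 4) (Fin 4) (ZMod 2)) ∈ dihElts.map mat :=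
  List.mem_map.2 ⟨_, List.mem_cons_self, mat_one⟩

theorem one_mem_elts : (1 : Matrix (Fin 4) (Fin 4) (ZMod 2)) ∈ elts.map mat :=
  List.mem_map.2 ⟨_, List.mem_cons_self, mat_one⟩

theorem mul_elts_all :
    (elts.all fun a => elts.all fun b => memB (mulC a b) elts) = true := by decide +kernel

theorem mul_dih_all :
    (dihElts.all fun a => dihElts.all fun b => memB (mulC a b) dihElts) = true := by decide +kernel

theorem sq_dih_all :
    (elts.all fun a => !memB (mulC a a) [![1, 2, 4, 8]] || memB a dihElts) = true := by decide +kernel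

theorem mul_elts_code : ∀ a ∈ elts, ∀ b ∈ elts, mulC a b ∈ elts := fun a ha b hb =>
  mem_of_memB (List.all_eq_true.1 (List.all_eq_true.1 mul_elts_all a ha) b hb)

theorem mul_dih_code : ∀ a ∈ dihElts, ∀ b ∈ dihElts, mulC a b ∈ dihElts := fun a ha b hb =>
  mem_of_memB (List.all_eq_true.1 (List.all_eq_true.1 mul_dih_all a ha) b hb)

theorem sq_dih_code : ∀ a ∈ elts, mulC a a = ![1, 2, 4, 8] → a ∈ dihElts := fun a ha h => by
  have h1 := List.all_eq_true.1 sq_dih_all a ha
  rw [h] at h1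
  exact mem_of_memB (by simpa [memB] using h1)

theorem mul_elts : ∀ a ∈ elts, ∀ b ∈ elts, mat a * mat b ∈ elts.map mat := fun a ha b hb =>
  List.mem_map.2 ⟨_, mul_elts_code a ha b hb, (mat_mul a b).symm⟩

theorem mul_dih : ∀ a ∈ dihElts, ∀ b ∈ dihElts, mat a * mat b ∈ dihElts.map mat := fun a ha b hb =>
  List.mem_map.2 ⟨_, mul_dih_code a ha b hb, (mat_mul a b).symm⟩

theorem sq_dih : ∀ a ∈ elts, mat a * mat a = 1 → mat a ∈ dihElts.map mat := fun a ha h =>
  List.mem_map.2 ⟨a, sq_dih_code a ha (mat_injective (by rw [← mat_mul, mat_one, h])), rfl⟩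

/-- An element of order four. -/
def four : GL (Fin 4) (ZMod 2) :=
  ⟨mat ![1, 3, 6, 15], mat (mulC ![1, 3, 6, 15] (mulC ![1, 3, 6, 15] ![1, 3, 6, 15])),
    by rw [mat_mul, ← mat_one]; exact congrArg mat (by decide +kernel),
    by rw [mat_mul, ← mat_one]; exact congrArg mat (by decide +kernel)⟩

theorem four_notMem : (four : Matrix (Fin 4) (Fin 4) (ZMod 2)) ∉ dihElts.map mat := fun h => by
  obtain ⟨a, ha, he⟩ := List.mem_map.1 h
  rw [mat_injective (he : mat a = mat ![1, 3, 6, 15])] at ha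
  have hn : dihElts.all (fun e => !(e 1 == 3)) = true := by decide +kernel
  have h1 := List.all_eq_true.1 hn _ ha
  simp at h1

theorem four_form : ∀ m n : Fin 16,
    formC (addC (addC (addC (bitC m 0 1) (bitC m 1 3)) (bitC m 2 6)) (bitC m 3 15))
      (addC (addC (addC (bitC n 0 1) (bitC n 1 3)) (bitC n 2 6)) (bitC n 3 15)) = formC m n := by
  decide +kernel

theorem four_star : ∀ r : Fin 4, minC (![1, 3, 6, 15] (Cfsg.Lie.pairOf r).1)
    (![1, 3, 6, 15] (Cfsg.Lie.pairOf r).2) = ![1, 3, 6, 15] r := by decide +kernel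

theorem mulVec_vec (a : Fin 4 → Fin 16) (m : Fin 16) : mat a *ᵥ vec m =
    vec (addC (addC (addC (bitC m 0 (a 0)) (bitC m 1 (a 1))) (bitC m 2 (a 2))) (bitC m 3 (a 3))) := by
  funext i
  exact congrFun (congrFun (mat_mul a fun _ => m) i) 0

theorem four_mem : four ∈ Cfsg.Lie.Sz (ZMod 2) 2 := by
  refine Subgroup.subset_closure ⟨?_, ?_⟩
  · intro u v
    obtain ⟨m, rfl⟩ := vec_surjective u
    obtain ⟨n, rfl⟩ := vec_surjective v
    show Cfsg.Lie.altForm4 (mat ![1, 3, 6, 15] *ᵥ vec m) (mat ![1, 3, 6, 15] *ᵥ vec n) = _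
    rw [mulVec_vec, mulVec_vec, formC_cast, formC_cast]
    exact congrArg _ (four_form m n)
  · refine Matrix.ext fun p r => ?_
    refine Eq.trans ?_ (ZMod.pow_card (mat ![1, 3, 6, 15] p r)).symm
    exact (congrFun (vec_minC _ _) p).symm.trans (congrArg (fun n => vec n p) (four_star r))

theorem mem_elts {g : GL (Fin 4) (ZMod 2)} (hg : g ∈ Cfsg.Lie.Sz (ZMod 2) 2) :
    (g : Matrix (Fin 4) (Fin 4) (ZMod 2)) ∈ elts.map mat := by
  rw [Cfsg.Lie.Sz, ← Subgroup.mem_toSubmonoid, Subgroup.closure_toSubmonoid_of_finite] at hg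
  induction hg using Submonoid.closure_induction with
  | mem x hx =>
    obtain ⟨hf, hs⟩ := hx
    set A : Matrix (Fin 4) (Fin 4) (ZMod 2) := (x : Matrix (Fin 4) (Fin 4) (ZMod 2)) with hA
    obtain ⟨c, hc⟩ : ∃ c : Fin 4 → Fin 16, ∀ j, vec (c j) = fun i => A i j :=
      ⟨fun j => (vec_surjective fun i => A i j).choose,
        fun j => (vec_surjective fun i => A i j).choose_spec⟩
    have hcol : ∀ r, minor (vec (c (Cfsg.Lie.pairOf r).1)) (vec (c (Cfsg.Lie.pairOf r).2)) =
        vec (c r) := by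
      intro r
      funext p
      have h := congrFun (congrFun hs p) r
      simp only [Matrix.map_apply] at h
      rw [hc, hc, hc]
      refine Eq.trans h ?_
      show A p r ^ 2 = A p r
      generalize A p r = z
      revert z
      decide
    have hform : ∀ i j, Cfsg.Lie.altForm4 (vec (c i)) (vec (c j)) =
        Cfsg.Lie.altForm4 (Pi.single i (1 : ZMod 2)) (Pi.single j 1) := by
      intro i j
      have h : Cfsg.Lie.altForm4 (A *ᵥ Pi.single i 1) (A *ᵥ Pi.single j 1) = _ := hf _ _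
      rw [Matrix.mulVec_single_one, Matrix.mulVec_single_one] at h
      rw [hc, hc]
      exact h
    have hcolC : ∀ r, minC (c (Cfsg.Lie.pairOf r).1) (c (Cfsg.Lie.pairOf r).2) = c r := fun r =>
      vec_injective _ _ ((vec_minC _ _).trans (hcol r))
    have hformC : ∀ i j, formC (c i) (c j) = if i.val + j.val = 3 then 1 else 0 := by
      intro i j
      have h := (formC_cast _ _).symm.trans (hform i j)
      have hlt : formC (c i) (c j) < 2 := Nat.mod_lt _ (by norm_num)
      have key : ∀ k : Fin 2, ∀ i j : Fin 4, (k.val : ZMod 2) =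
          Cfsg.Lie.altForm4 (Pi.single i (1 : ZMod 2)) (Pi.single j 1) →
          k.val = if i.val + j.val = 3 then 1 else 0 := by decide +kernel
      exact key ⟨_, hlt⟩ i j h
    have hm := enum_code (c 0) (c 1) (hcolC 0) (hformC 0 1) (c 2) (hcolC 1) (c 3)
      (by
        simp only [lastCond, Bool.and_eq_true, beq_iff_eq]
        exact ⟨⟨⟨⟨⟨⟨hcolC 2, hcolC 3⟩, hformC 0 3⟩, hformC 1 2⟩, hformC 0 2⟩, hformC 1 3⟩, hformC 2 3⟩)
    replace hm := mem_of_memB hm
    rw [show ![c 0, c 1, c 2, c 3] = c by funext i; fin_cases i <;> rfl] at hm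
    refine List.mem_map.2 ⟨c, hm, ?_⟩
    ext i j
    exact congrFun (hc j) i
  | one => exact one_mem_elts
  | mul x y _ _ hx hy =>
    obtain ⟨a, ha, hax⟩ := List.mem_map.1 hx
    obtain ⟨b, hb, hby⟩ := List.mem_map.1 hy
    have h := mul_elts a ha b hb
    rw [hax, hby] at h
    exact h

/-- The Suzuki group over the field with two elements is not generated by involutions. -/
theorem exists_proper_of_involutions {F : Type*} [Field F] [Fintype F] (hF : Fintype.card F = 2) :
    ∃ D : Subgroup ↥(Cfsg.Lie.Sz F 2), D ≠ ⊤ ∧ ∀ g, g ^ 2 = 1 → g ∈ D := by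
  haveI : Fact (Nat.Prime 2) := ⟨Nat.prime_two⟩
  let e : ZMod 2 ≃+* F := ZMod.ringEquivOfPrime F Nat.prime_two hF
  let Φ := Matrix.GeneralLinearGroup.map (n := Fin 4) e.symm.toRingHom
  let Ψ := Matrix.GeneralLinearGroup.map (n := Fin 4) e.toRingHom
  let K₀ : Submonoid (GL (Fin 4) (ZMod 2)) :=
    { carrier := {g | (g : Matrix (Fin 4) (Fin 4) (ZMod 2)) ∈ dihElts.map mat}
      one_mem' := one_mem
      mul_mem' := fun {x y} hx hy => by
        obtain ⟨a, ha, hax⟩ := List.mem_map.1 hx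
        obtain ⟨b, hb, hby⟩ := List.mem_map.1 hy
        have h := mul_dih a ha b hb
        rw [hax, hby] at h
        exact h }
  let K : Subgroup (GL (Fin 4) (ZMod 2)) :=
    { K₀ with
      inv_mem' := fun {x} hx => by
        have h := pow_mem (show x ∈ K₀ from hx) (orderOf x - 1)
        rwa [← inv_eq_of_mul_eq_one_right (a := x) (b := x ^ (orderOf x - 1)) (by
          rw [← pow_succ', Nat.sub_add_cancel (orderOf_pos x), pow_orderOf_eq_one])] at h }
  refine ⟨(K.comap Φ).subgroupOf _, fun h => ?_, fun g hg => ?_⟩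
  · have hm : Ψ four ∈ Cfsg.Lie.Sz F 2 := map_mem_Sz e 2 ⟨four, four_mem, rfl⟩
    have h1 : (⟨Ψ four, hm⟩ : ↥(Cfsg.Lie.Sz F 2)) ∈ (K.comap Φ).subgroupOf _ := h ▸ Subgroup.mem_top _
    apply four_notMem
    have h2 : Φ (Ψ four) = four := by
      ext i j
      simp [Φ, Ψ]
    have h3 : Φ (Ψ four) ∈ K := h1
    rw [h2] at h3
    exact h3
  · have hm := mem_elts (map_mem_Sz e.symm 2 ⟨_, g.2, rfl⟩)
    obtain ⟨a, ha, hag⟩ := List.mem_map.1 hm
    have h2 : mat a * mat a = 1 := by
      rw [hag]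
      have h := congrArg (fun x : ↥(Cfsg.Lie.Sz F 2) =>
        (Φ (x : GL (Fin 4) F) : Matrix (Fin 4) (Fin 4) (ZMod 2))) hg
      simp only [pow_two, Subgroup.coe_mul, map_mul, Units.val_mul, Subgroup.coe_one, map_one,
        Units.val_one] at h
      exact h
    have := sq_dih a ha h2
    rw [hag] at this
    exact this

end Cfsg.Agent.Lib.SzTwo55
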