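import Cfsg.Agent.Lib.Components.Subnormal

/-!
Wielandt's zipper lemma and subnormality criterion.
-/

set_option autoImplicit false

namespace Cfsg.Agent.Lib.Zipper

open scoped Pointwise

variable {G : Type*} [Group G]

/-- A subnormal subgroup that is not normal has a different conjugate inside its normaliser. -/
theorem exists_conj_le_normalizer {A : Subgroup G} (hA : A.IsSubnormal) (hn : ¬ A.Normal) :
    ∃ x : G, x ∉ Subgroup.normalizer (A : Set G) ∧
      ∀ a ∈ A, x * a * x⁻¹ ∈ Subgroup.normalizer (A : Set G) := by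
  suffices key : ∀ K : Subgroup G, K.IsSubnormal → ∀ H : Subgroup G, H ≤ K →
      K ≤ Subgroup.normalizer (H : Set G) → ¬ H.Normal →
      ∃ x : G, x ∉ Subgroup.normalizer (H : Set G) ∧
        ∀ a ∈ H, x * a * x⁻¹ ∈ Subgroup.normalizer (H : Set G) from
    key A hA A le_rfl Subgroup.le_normalizer hn
  intro K hK
  induction hK with
  | top =>
    intro H _ hle hH
    exact absurd (Subgroup.normalizer_eq_top_iff.mp (top_le_iff.mp hle)) hH
  | step K L hKL _ hN ih =>
    intro H hHK hle hH
    by_cases hL : L ≤ Subgroup.normalizer (H : Set G)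
    · exact ih H (hHK.trans hKL) hL hH
    · obtain ⟨x, hxL, hx⟩ := Set.not_subset.mp hL
      refine ⟨x, hx, fun a ha => hle ?_⟩
      have hLn := (Subgroup.normal_subgroupOf_iff_le_normalizer hKL).mp hN
      exact (Subgroup.mem_normalizer_iff.mp (hLn hxL) a).mp (hHK ha)

/-- Conjugation transports relative subnormality. -/
theorem subnormal_conj_subgroupOf {A Y : Subgroup G} (x : G)
    (h : ((A.subgroupOf (MulAut.conj x⁻¹ • Y))).IsSubnormal) :
    ((MulAut.conj x • A).subgroupOf Y).IsSubnormal := by
  let f : Y →* (MulAut.conj x⁻¹ • Y : Subgroup G) :=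
    ((MulAut.conj x⁻¹).toMonoidHom.comp Y.subtype).codRestrict _ fun y => by
      rw [Subgroup.mem_pointwise_smul_iff_inv_smul_mem]
      simp [MulAut.smul_def, mul_assoc]
  have he : (A.subgroupOf (MulAut.conj x⁻¹ • Y)).comap f = (MulAut.conj x • A).subgroupOf Y := by
    ext y
    rw [Subgroup.mem_comap, Subgroup.mem_subgroupOf, Subgroup.mem_subgroupOf,
      Subgroup.mem_pointwise_smul_iff_inv_smul_mem]
    simp [f, MulAut.smul_def]
  rw [← he]
  exact h.comap f

variable [Finite G]

/-- **Zipper lemma**: if `A` is not subnormal but subnormal in every proper subgroup containing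
it, then it lies in a unique maximal subgroup. -/
theorem zipper (A : Subgroup G)
    (h : ∀ Y : Subgroup G, Y ≠ ⊤ → A ≤ Y → (A.subgroupOf Y).IsSubnormal)
    (hA : ¬ A.IsSubnormal) :
    ∃ M : Subgroup G, IsCoatom M ∧ A ≤ M ∧ ∀ X : Subgroup G, IsCoatom X → A ≤ X → X = M := by
  induction A using WellFoundedGT.induction with
  | _ A ih =>
    have hN : Subgroup.normalizer (A : Set G) ≠ ⊤ := fun e =>
      hA (Subgroup.normalizer_eq_top_iff.mp e).isSubnormal
    obtain ⟨M, hM, hNM⟩ := (eq_top_or_exists_le_coatom _).resolve_left hN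
    refine ⟨M, hM, Subgroup.le_normalizer.trans hNM, fun X hX hAX => ?_⟩
    by_contra hne
    have hAXn : ¬ (A.subgroupOf X).Normal := fun hn => by
      have hXN := (Subgroup.normal_subgroupOf_iff_le_normalizer hAX).mp hn
      rcases hX.le_iff.mp (hXN.trans hNM) with e | e
      · exact hM.1 e
      · exact hne e.symm
    obtain ⟨⟨x, hxX⟩, hx1, hx2⟩ := exists_conj_le_normalizer (h X hX.1 hAX) hAXn
    set N := Subgroup.normalizer (A : Set G) with hNdef
    have hx1' : x ∉ N := by
      intro hc
      apply hx1
      rw [Subgroup.mem_normalizer_iff]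
      intro y
      exact Subgroup.mem_normalizer_iff.mp hc y
    set A' : Subgroup G := MulAut.conj x • A with hA'
    have hA'X : A' ≤ X := by
      intro z hz
      rw [Subgroup.mem_pointwise_smul_iff_inv_smul_mem] at hz
      have : z = x * (x⁻¹ * z * x) * x⁻¹ := by group
      rw [this]
      refine mul_mem (mul_mem hxX (hAX ?_)) (inv_mem hxX)
      simpa [MulAut.smul_def, mul_assoc] using hz
    have hA'N : A' ≤ N := by
      intro z hz
      have hzX := hA'X hz
      rw [Subgroup.mem_pointwise_smul_iff_inv_smul_mem] at hz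
      have hz' : x⁻¹ * z * x ∈ A := by simpa [MulAut.smul_def, mul_assoc] using hz
      have hmem := Subgroup.mem_normalizer_iff.mp (hx2 ⟨x⁻¹ * z * x, hAX hz'⟩ hz')
      have hzN : ∀ a ∈ A, z * a * z⁻¹ ∈ A := fun a ha => by
        have := (hmem ⟨a, hAX ha⟩).mp ha
        simpa [Subgroup.mem_subgroupOf, mul_assoc] using this
      rw [hNdef, Subgroup.mem_normalizer_iff]
      intro a
      refine ⟨hzN a, fun ha => ?_⟩
      let f : A → A := fun b => ⟨_, hzN b b.2⟩
      have hf : Function.Injective f := fun b c e => by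
        have := congrArg Subtype.val e
        simpa [f] using this
      obtain ⟨b, hb⟩ := Finite.surjective_of_injective hf ⟨_, ha⟩
      have hb' : z * (b : G) * z⁻¹ = z * a * z⁻¹ := congrArg Subtype.val hb
      rw [← mul_left_cancel (mul_right_cancel hb')]
      exact b.2
    have hlt : A < A ⊔ A' := by
      refine lt_of_le_of_ne le_sup_left fun e => hx1' ?_
      have hle : A' ≤ A := e.symm ▸ le_sup_right
      rw [hNdef, Subgroup.mem_normalizer_iff]
      have heq : A' = A := Subgroup.eq_of_le_of_card_ge hle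
        (le_of_eq (Nat.card_congr (Subgroup.equivSMul (MulAut.conj x) A).toEquiv))
      intro a
      constructor
      · intro ha
        rw [← heq, Subgroup.mem_pointwise_smul_iff_inv_smul_mem]
        simpa [MulAut.smul_def, mul_assoc] using ha
      · intro ha
        rw [← heq, Subgroup.mem_pointwise_smul_iff_inv_smul_mem] at ha
        simpa [MulAut.smul_def, mul_assoc] using ha
    have hBsn : ∀ Y : Subgroup G, Y ≠ ⊤ → A ⊔ A' ≤ Y → ((A ⊔ A').subgroupOf Y).IsSubnormal := by
      intro Y hY hBY
      obtain ⟨hAY, hA'Y⟩ := sup_le_iff.mp hBY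
      have hY' : MulAut.conj x⁻¹ • Y ≠ ⊤ := by
        intro e
        apply hY
        rw [eq_top_iff]
        intro z _
        have : MulAut.conj x⁻¹ z ∈ MulAut.conj x⁻¹ • Y := by rw [e]; trivial
        rwa [← MulAut.smul_def, Subgroup.smul_mem_pointwise_smul_iff] at this
      have hAY' : A ≤ MulAut.conj x⁻¹ • Y := by
        intro a ha
        rw [Subgroup.mem_pointwise_smul_iff_inv_smul_mem]
        refine hA'Y ?_
        rw [Subgroup.mem_pointwise_smul_iff_inv_smul_mem]
        simpa [MulAut.smul_def, mul_assoc] using ha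
      rw [Subgroup.subgroupOf_sup hAY hA'Y]
      exact Components.subnormal_sup (h Y hY hAY)
        (subnormal_conj_subgroupOf x (h _ hY' hAY'))
    have hBns : ¬ (A ⊔ A').IsSubnormal := fun hB =>
      hA (.step A _ le_sup_left hB ((Subgroup.normal_subgroupOf_iff_le_normalizer le_sup_left).mpr
        (sup_le Subgroup.le_normalizer hA'N)))
    obtain ⟨M', -, -, huniq⟩ := ih (A ⊔ A') hlt hBsn hBns
    exact hne ((huniq X hX (sup_le hAX hA'X)).trans
      (huniq M hM ((sup_le Subgroup.le_normalizer hA'N).trans hNM)).symm)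

universe u

/-- **Wielandt's criterion**. -/
theorem isSubnormal_of_forall_sup_conj {G : Type u} [Group G] [Finite G] (A : Subgroup G)
    (h : ∀ g : G, (A.subgroupOf (A ⊔ MulAut.conj g • A)).IsSubnormal) : A.IsSubnormal := by
  suffices key : ∀ (n : ℕ) (G : Type u) [Group G] [Finite G], Nat.card G = n → ∀ A : Subgroup G,
      (∀ g : G, (A.subgroupOf (A ⊔ MulAut.conj g • A)).IsSubnormal) → A.IsSubnormal from
    key _ G rfl A h
  intro n
  induction n using Nat.strong_induction_on with
  | _ n ih =>
    intro G _ _ hn A h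
    by_contra hA
    have hY : ∀ Y : Subgroup G, Y ≠ ⊤ → A ≤ Y → (A.subgroupOf Y).IsSubnormal := by
      intro Y hYtop hAY
      refine ih (Nat.card Y) ?_ Y rfl _ fun g => ?_
      · rw [← hn]
        exact lt_of_le_of_ne Y.card_le_card_group fun e => hYtop (Y.eq_top_of_card_eq e)
      · set J : Subgroup G := A ⊔ MulAut.conj (g : G) • A
        set J' : Subgroup Y := A.subgroupOf Y ⊔ MulAut.conj g • A.subgroupOf Y
        have hJ : J' ≤ J.subgroupOf Y := by
          refine sup_le (fun y hy => Subgroup.mem_sup_left hy) (fun y hy => ?_)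
          refine Subgroup.mem_sup_right ?_
          rw [Subgroup.mem_pointwise_smul_iff_inv_smul_mem] at hy ⊢
          simpa [MulAut.smul_def, Subgroup.mem_subgroupOf] using hy
        let f : J' →* J := (Y.subtype.comp J'.subtype).codRestrict J fun y => hJ y.2
        exact (h g).comap f
    obtain ⟨M, hM, hAM, huniq⟩ := zipper A hY hA
    have hconj : ∀ g : G, MulAut.conj g • A ≤ M := by
      intro g
      rcases eq_top_or_exists_le_coatom (A ⊔ MulAut.conj g • A) with e | ⟨X, hX, hle⟩
      · refine absurd ?_ hA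
        have h1 := Subgroup.IsSubnormal.trans le_sup_left (h g)
          (by rw [e]; exact Subgroup.IsSubnormal.top)
        exact h1
      · exact le_sup_right.trans (hle.trans (huniq X hX (le_sup_left.trans hle)).le)
    have hcl : Subgroup.normalClosure (A : Set G) ≤ M := by
      refine (Subgroup.closure_le _).mpr fun z hz => ?_
      obtain ⟨a, ha, hc⟩ := Group.mem_conjugatesOfSet_iff.mp hz
      obtain ⟨g, rfl⟩ := isConj_iff.mp hc
      refine hconj g ?_
      rw [Subgroup.mem_pointwise_smul_iff_inv_smul_mem]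
      simpa [MulAut.smul_def, mul_assoc] using ha
    exact hA (Subgroup.IsSubnormal.trans Subgroup.le_normalClosure
      (hY _ (fun e => hM.1 (top_le_iff.mp (e ▸ hcl))) Subgroup.le_normalClosure)
      Subgroup.normalClosure_normal.isSubnormal)

end Cfsg.Agent.Lib.Zipper
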